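import Cfsg.Agent.Lib.S3Amalgam.DistOne

/-!
The vertex groups when the critical distance is one.
-/

set_option autoImplicit false
set_option linter.unusedSectionVars false

namespace CfsgLib.S3Amalgam

open MulAction

variable {G : Type*} [Group G] {Ω : Type*} [MulAction G Ω] (D : Am G Ω)

namespace Am

theorem exists_u {x y : Ω} (h : D.Adj x y) :
    ∃ u ∈ D.V (G := G) x, u ∈ T x y ∧ u ∉ D.Q y := by
  obtain ⟨u, hu, huy⟩ := SetLike.not_le_iff_exists.mp (D.dist_one h)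
  exact ⟨u, hu, D.Q_le_T h (D.V_le_Q x hu), huy⟩

theorem kernel_split {x y : Ω} (h : D.Adj x y) {q : G} (hq : q ∈ D.Q x) {u : G}
    (hu : u ∈ D.Q x) (huy : u ∉ D.Q y) :
    q ∈ D.Q x ⊓ D.Q y ∨ q * u ∈ D.Q x ⊓ D.Q y := by
  by_cases hqy : q ∈ D.Q y
  · exact Or.inl ⟨hq, hqy⟩
  · exact Or.inr ⟨mul_mem hq hu, D.mul_mem_Q (D.symm h)
      (by rw [T_comm]; exact D.Q_le_T h hq) (by rw [T_comm]; exact D.Q_le_T h hu) hqy huy⟩

theorem inf_sq {x y : Ω} (h : D.Adj x y) : ∀ q ∈ D.Q (G := G) x ⊓ D.Q y, q * q = 1 := by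
  set S : Subgroup G := Subgroup.closure {g | ∃ q ∈ D.Q (G := G) x ⊓ D.Q y, g = q * q} with hS
  have hle : ∀ q ∈ D.Q (G := G) x ⊓ D.Q y, q * q ∈ S := fun q hq =>
    Subgroup.subset_closure ⟨q, hq, rfl⟩
  have half : ∀ z w, D.Adj z w → D.Q (G := G) z ⊓ D.Q w = D.Q x ⊓ D.Q y →
      ∀ g : G, g • z = z → ∀ n ∈ S, g * n * g⁻¹ ∈ S := by
    intro z w hzw heq g hg n hn
    have key : S ≤ S.comap (MulAut.conj g).toMonoidHom := by
      refine (Subgroup.closure_le _).mpr ?_
      rintro _ ⟨q, hq, rfl⟩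
      show g * (q * q) * g⁻¹ ∈ S
      rw [show g * (q * q) * g⁻¹ = (g * q * g⁻¹) * (g * q * g⁻¹) by group]
      have hz : g * q * g⁻¹ ∈ D.Q z := by
        have := D.conj_Q (g := g) (heq ▸ hq : q ∈ D.Q z ⊓ D.Q w).1
        rwa [hg] at this
      obtain ⟨u, hu, -, huw⟩ := D.exists_u hzw
      rcases D.kernel_split hzw hz (D.V_le_Q z hu) huw with e | e
      · exact hle _ (heq ▸ e)
      · have := hle _ (heq ▸ e)
        rwa [show g * q * g⁻¹ * u * (g * q * g⁻¹ * u)
          = g * q * g⁻¹ * (u * (g * q * g⁻¹)) * u by group, ← D.V_comm hu hz,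
          show g * q * g⁻¹ * (g * q * g⁻¹ * u) * u
            = g * q * g⁻¹ * (g * q * g⁻¹) * (u * u) by group, D.V_sq hu, mul_one] at this
    exact key hn
  have hbot : S = ⊥ := D.eq_bot_of_normalized h ((Subgroup.closure_le _).mpr (by
      rintro _ ⟨q, hq, rfl⟩
      exact mul_mem (D.Q_le_T h hq.1) (D.Q_le_T h hq.1)))
    (half x y h rfl) (half y x (D.symm h) (inf_comm _ _))
  intro q hq
  exact Subgroup.mem_bot.mp (hbot ▸ hle q hq)

theorem inf_eq_zed {x y : Ω} (h : D.Adj x y) : D.Q (G := G) x ⊓ D.Q y = zed (T x y) := by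
  refine le_antisymm (fun q hq => ?_) (le_inf (D.zed_le_Q h)
    (by rw [T_comm]; exact D.zed_le_Q (D.symm h)))
  obtain ⟨u, hu, -, huy⟩ := D.exists_u h
  obtain ⟨w, hw, hwT, hwx⟩ := D.exists_u (D.symm h)
  rw [T_comm] at hwT
  have hc : ∀ r ∈ D.Q x ⊓ D.Q y, r * q = q * r := by
    intro r hr
    have e := D.inf_sq h (r * q) (mul_mem hr hq)
    calc r * q = (r * q)⁻¹ := (inv_eq_self e).symm
      _ = q * r := by rw [mul_inv_rev, inv_eq_self (D.inf_sq h q hq), inv_eq_self (D.inf_sq h r hr)]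
  have hx : ∀ r ∈ D.Q x, r * q = q * r := by
    intro r hr
    rcases D.kernel_split h hr (D.V_le_Q x hu) huy with e | e
    · exact hc r e
    · have e1 := hc _ e
      rw [mul_assoc, ← D.V_comm hu hq.1, ← mul_assoc, ← mul_assoc] at e1
      exact mul_right_cancel e1
  refine ⟨D.Q_le_T h hq.1, D.inf_sq h q hq, fun g hg => ?_⟩
  by_cases hgx : g ∈ D.Q x
  · exact hx g hgx
  · have e1 := hx _ (D.mul_mem_Q h hg hwT hgx hwx)
    rw [mul_assoc, ← D.V_comm hw hq.2, ← mul_assoc, ← mul_assoc] at e1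
    exact mul_right_cancel e1

theorem Q_le_V {x y : Ω} (h : D.Adj x y) : D.Q (G := G) x ≤ D.V x := by
  intro q hq
  obtain ⟨u, hu, -, huy⟩ := D.exists_u h
  rcases D.kernel_split h hq (D.V_le_Q x hu) huy with e | e <;> rw [D.inf_eq_zed h] at e
  · exact D.zed_le_V h e
  · exact (Subgroup.mul_mem_cancel_right _ hu).mp (D.zed_le_V h e)

theorem card_Q {x y : Ω} (h : D.Adj x y) :
    Nat.card ↥(D.Q (G := G) x) = 2 * Nat.card ↥(zed (G := G) (T x y)) := by
  classical
  haveI := D.fin x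
  obtain ⟨u, hu, -, huy⟩ := D.exists_u h
  have hu' : u ∈ D.Q x := D.V_le_Q x hu
  have hle : zed (T x y) ≤ D.Q (G := G) x := D.zed_le_Q h
  let f : ↥(zed (G := G) (T x y)) × Bool → ↥(D.Q (G := G) x) := fun p =>
    ⟨if p.2 then p.1.1 * u else p.1.1, by
      split
      · exact mul_mem (hle p.1.2) hu'
      · exact hle p.1.2⟩
  have hnot : ∀ z ∈ zed (T x y), z * u ∉ zed (T x y) := fun z hz e => by
    have := (Subgroup.mul_mem_cancel_left _ hz).mp e
    rw [← D.inf_eq_zed h] at this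
    exact huy this.2
  have hb : Function.Bijective f := by
    constructor
    · rintro ⟨⟨a, ha⟩, i⟩ ⟨⟨c, hc⟩, j⟩ e
      have e' := congrArg Subtype.val e
      cases i <;> cases j <;> simp only [f, if_true, if_false, Bool.false_eq_true] at e'
      · subst e'; rfl
      · exact absurd (e' ▸ ha) (hnot c hc)
      · exact absurd (e' ▸ hc) (hnot a ha)
      · obtain rfl := mul_right_cancel e'; rfl
    · rintro ⟨q, hq⟩
      rcases D.kernel_split h hq hu' huy with e | e <;> rw [D.inf_eq_zed h] at e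
      · exact ⟨(⟨q, e⟩, false), rfl⟩
      · exact ⟨(⟨q * u, e⟩, true), Subtype.ext (by simp [f, mul_assoc, D.V_sq hu])⟩
  rw [← Nat.card_congr (Equiv.ofBijective f hb), Nat.card_prod]
  simp [mul_comm]

/-- The fixed part of the centre of an edge group. -/
def fixed (x y : Ω) : Subgroup G :=
  zed (T x y) ⊓ Subgroup.centralizer (stabilizer G x : Set G)

theorem fixed_step {x y : Ω} (h : D.Adj x y) {a c : G} (ha : a ∈ zed (T x y))
    (hc : c ∈ zed (T x y)) (ha' : a ∉ fixed x y) (hc' : c ∉ fixed x y) :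
    a * c ∈ fixed x y := by
  obtain ⟨z, -, hz, -, hzy, -, -⟩ := D.two_others h
  obtain ⟨k, hk, hkQ⟩ := D.exists_not_mem_Q hz
  have hin : ∀ e ∈ zed (T x y), e ∈ D.Q z → e ∈ fixed x y := by
    intro e he hez
    have he' : e ∈ zed (T x z) := by rw [← D.inf_eq_zed hz]; exact ⟨D.zed_le_Q h he, hez⟩
    exact ⟨he, Subgroup.mem_centralizer_iff.mpr fun g hg => D.central_of_moves h he hk.1
      (D.moves hz hk hkQ h hzy.symm) (he'.2.2 k hk) g hg⟩
  exact hin _ (mul_mem ha hc) (D.mul_mem_Q (D.symm hz)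
    (by rw [T_comm]; exact D.Q_le_T hz (D.zed_le_Q h ha))
    (by rw [T_comm]; exact D.Q_le_T hz (D.zed_le_Q h hc))
    (fun e => ha' (hin a ha e)) (fun e => hc' (hin c hc e)))

theorem card_zed {x y : Ω} (h : D.Adj x y) :
    Nat.card ↥(zed (G := G) (T x y)) = 2 ∨
      (Nat.card ↥(zed (G := G) (T x y)) = 4 ∧ ∃ c ∈ fixed (G := G) x y, c ≠ 1) := by
  classical
  haveI := D.fin x
  haveI : Finite ↥(zed (G := G) (T x y)) :=
    Finite.of_injective (Subgroup.inclusion (show zed (T x y) ≤ stabilizer G x from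
      fun z hz => hz.1.1)) (Subgroup.inclusion_injective _)
  set Z : Subgroup G := zed (T x y) with hZ
  have hsym : fixed (G := G) y x ≤ Z := by
    rw [hZ, T_comm]; exact inf_le_left
  have hdis : ∀ c, c ∈ fixed (G := G) x y → c ∈ fixed (G := G) y x → c = 1 := fun c h1 h2 =>
    D.eq_one_of_central h h1.1.1
      (fun g hg => Subgroup.mem_centralizer_iff.mp h1.2 g hg)
      (fun g hg => Subgroup.mem_centralizer_iff.mp h2.2 g hg)
  have hone : ∀ c d, c ∈ fixed (G := G) x y → d ∈ fixed (G := G) x y → c ≠ 1 → d ≠ 1 → c = d := by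
    intro c d hc hd hc1 hd1
    have hcd := D.fixed_step (D.symm h) (T_comm (G := G) x y ▸ hc.1) (T_comm (G := G) x y ▸ hd.1)
      (fun e => hc1 (hdis c hc e)) (fun e => hd1 (hdis d hd e))
    have := hdis _ (mul_mem hc hd) hcd
    rw [eq_inv_of_mul_eq_one_left this, inv_eq_self hd.1.2.1]
  obtain ⟨z, hzx, hzy, hz2, hzc, g, hg, hne⟩ := D.nc h
  have hzZ : z ∈ Z := ⟨⟨hzx, hzy⟩, hz2, fun k hk => hzc k hk.1 hk.2⟩
  have hzC : z ∉ fixed (G := G) x y := fun e => hne (Subgroup.mem_centralizer_iff.mp e.2 g hg)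
  have hz1 : z ≠ 1 := fun e => hzC (e ▸ one_mem _)
  by_cases hc : ∃ c ∈ fixed (G := G) x y, c ≠ 1
  · obtain ⟨c, hc, hc1⟩ := hc
    right
    refine ⟨?_, c, hc, hc1⟩
    have hcz : c ≠ z := fun e => hzC (e ▸ hc)
    have hall : ∀ a ∈ Z, a = 1 ∨ a = c ∨ a = z ∨ a = c * z := by
      intro a ha
      have cases' : ∀ e ∈ fixed (G := G) x y, e = 1 ∨ e = c := fun e he => by
        by_cases h1 : e = 1
        · exact Or.inl h1
        · exact Or.inr (hone e c he hc h1 hc1)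
      by_cases haC : a ∈ fixed (G := G) x y
      · rcases cases' a haC with e | e
        · exact Or.inl e
        · exact Or.inr (Or.inl e)
      · rcases cases' _ (D.fixed_step h ha hzZ haC hzC) with e | e
        · refine Or.inr (Or.inr (Or.inl ?_))
          rw [eq_inv_of_mul_eq_one_left e, inv_eq_self hz2]
        · refine Or.inr (Or.inr (Or.inr ?_))
          rw [← e, mul_assoc, hz2, mul_one]
    have h4 : ({1, c, z, c * z} : Finset G).card = 4 := by
      have e1 : c * z ≠ 1 := fun e => hcz (by rw [eq_inv_of_mul_eq_one_left e, inv_eq_self hz2])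
      have e2 : c * z ≠ c := fun e => hz1 (mul_eq_left.mp e)
      have e3 : c * z ≠ z := fun e => hc1 (mul_eq_right.mp e)
      rw [Finset.card_insert_of_notMem (by simp [hc1.symm, hz1.symm, e1.symm]),
        Finset.card_insert_of_notMem (by simp [hcz, e2.symm]), Finset.card_pair e3.symm]
    change Nat.card (Z : Set G) = 4
    rw [Nat.card_coe_set_eq, ← h4, ← Set.ncard_coe_finset]
    congr 1
    ext a
    simp only [Finset.coe_insert, Finset.coe_singleton, Set.mem_insert_iff,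
      Set.mem_singleton_iff, SetLike.mem_coe]
    refine ⟨hall a, ?_⟩
    rintro (rfl | rfl | rfl | rfl)
    exacts [one_mem _, hc.1, hzZ, mul_mem hc.1 hzZ]
  · left
    simp only [not_exists, not_and, not_not] at hc
    have hall : (Z : Set G) = {1, z} := by
      ext a
      simp only [Set.mem_insert_iff, Set.mem_singleton_iff, SetLike.mem_coe]
      refine ⟨fun ha => ?_, ?_⟩
      · by_cases haC : a ∈ fixed (G := G) x y
        · exact Or.inl (hc a haC)
        · right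
          rw [eq_inv_of_mul_eq_one_left (hc _ (D.fixed_step h ha hzZ haC hzC)), inv_eq_self hz2]
      · rintro (rfl | rfl)
        exacts [one_mem _, hzZ]
    change Nat.card (Z : Set G) = 2
    rw [Nat.card_coe_set_eq, hall, Set.ncard_pair hz1.symm]

/-- The shape of the kernel of a vertex. -/
theorem vertex_shape {x y : Ω} (h : D.Adj x y) :
    (∀ q ∈ D.Q (G := G) x, q * q = 1) ∧
    (∀ q ∈ D.Q (G := G) x, ∀ r ∈ D.Q x, q * r = r * q) ∧
    (Nat.card ↥(D.Q (G := G) x) = 4 ∨ (Nat.card ↥(D.Q (G := G) x) = 8 ∧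
      ∃ c ∈ D.Q (G := G) x, c ≠ 1 ∧ ∀ g : G, g • x = x → g * c = c * g)) ∧
    Nat.card ↥(D.Q (G := G) x) = Nat.card ↥(D.Q (G := G) y) ∧
    ∃ w : G, w • x = x ∧ w ∉ D.Q x ∧ w * w = 1 := by
  obtain ⟨w, hw, hwT, hwx⟩ := D.exists_u (D.symm h)
  refine ⟨fun q hq => D.V_sq (D.Q_le_V h hq),
    fun q hq r hr => D.V_comm (D.Q_le_V h hr) hq, ?_, ?_,
    w, hwT.2, hwx, D.V_sq hw⟩
  · rw [D.card_Q h]
    rcases D.card_zed h with e | ⟨e, c, hc, hc1⟩ <;> rw [e]
    · exact Or.inl rfl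
    · exact Or.inr ⟨rfl, c, D.zed_le_Q h hc.1, hc1,
        fun g hg => Subgroup.mem_centralizer_iff.mp hc.2 g hg⟩
  · rw [D.card_Q h, D.card_Q (D.symm h), T_comm x y]

end Am

end CfsgLib.S3Amalgam
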