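import Mathlib

/-!
Groups with an elementary abelian self-centralising normal subgroup of order four or eight with
quotient the symmetric group of degree three.
-/

set_option autoImplicit false

namespace CfsgLib.S3Amalgam

theorem perm_three_facts : ∀ x y : Equiv.Perm (Fin 3), x * x * x = 1 → x ≠ 1 → y * y = 1 → y ≠ 1 →
    y * x * y = x * x ∧ x * x ≠ x ∧
      ∀ g : Equiv.Perm (Fin 3), ∃ i : Fin 3, ∃ j : Fin 2, g = x ^ (i : ℕ) * y ^ (j : ℕ) := by
  decide

variable {P : Type*} [Group P]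

theorem form {A : Subgroup P} {d s : P} (hd : d * d * d = 1) (hs : s * s = 1)
    (hsd : s * d * s = d * d) (hAd : ∀ a ∈ A, d * a * d⁻¹ ∈ A) (hAs : ∀ a ∈ A, s * a * s ∈ A)
    {x : P} (hx : x ∈ Subgroup.closure ((A : Set P) ∪ {d, s})) :
    ∃ a ∈ A, ∃ i j : ℕ, x = a * d ^ i * s ^ j := by
  have gd : ∀ a ∈ A, ∀ i j : ℕ, ∃ a' ∈ A, ∃ i' j' : ℕ,
      d * (a * d ^ i * s ^ j) = a' * d ^ i' * s ^ j' := fun a ha i j =>
    ⟨_, hAd a ha, i + 1, j, by rw [pow_succ']; group⟩
  have gs : ∀ a ∈ A, ∀ i j : ℕ, ∃ a' ∈ A, ∃ i' j' : ℕ,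
      s * (a * d ^ i * s ^ j) = a' * d ^ i' * s ^ j' := fun a ha i j =>
    ⟨_, hAs a ha, 2 * i, j + 1, by
      have : s * d ^ i * s = d ^ (2 * i) := by
        have h := conj_pow (a := s) (b := d) (i := i)
        rw [← eq_inv_of_mul_eq_one_left hs, hsd] at h
        rw [← h, pow_mul, pow_two]
      rw [← this, pow_succ', show s * a * s * (s * d ^ i * s) * (s * s ^ j)
        = s * a * (s * s) * d ^ i * (s * s) * s ^ j by group, hs]
      group⟩
  induction hx using Subgroup.closure_induction_left with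
  | one => exact ⟨1, one_mem _, 0, 0, by simp⟩
  | mul_left g hg b _ ih =>
    obtain ⟨a, ha, i, j, rfl⟩ := ih
    rcases hg with hg | hg | hg
    · exact ⟨g * a, mul_mem hg ha, i, j, by group⟩
    · subst hg; exact gd a ha i j
    · rw [Set.mem_singleton_iff] at hg; subst hg; exact gs a ha i j
  | inv_mul_cancel g hg b _ ih =>
    obtain ⟨a, ha, i, j, rfl⟩ := ih
    rcases hg with hg | hg | hg
    · exact ⟨g⁻¹ * a, mul_mem (inv_mem hg) ha, i, j, by group⟩
    · subst hg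
      obtain ⟨a', ha', i', j', e⟩ := gd a ha i j
      obtain ⟨a'', ha'', i'', j'', e'⟩ := gd a' ha' i' j'
      refine ⟨a'', ha'', i'', j'', ?_⟩
      rw [← e', ← e, ← eq_inv_of_mul_eq_one_left hd]; group
    · rw [Set.mem_singleton_iff] at hg; subst hg
      rw [← eq_inv_of_mul_eq_one_left hs]; exact gs a ha i j

theorem shape [Finite P] (Q : Subgroup P) (φ : P →* Equiv.Perm (Fin 3))
    (hφ : Function.Surjective φ) (hker : φ.ker = Q)
    (hsq : ∀ q ∈ Q, q * q = 1) (hcomm : ∀ q ∈ Q, ∀ r ∈ Q, q * r = r * q)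
    (hcent : ∀ g : P, (∀ q ∈ Q, g * q = q * g) → g ∈ Q)
    (hcard : Nat.card Q = 4 ∨ (Nat.card Q = 8 ∧ ∃ c ∈ Q, c ≠ 1 ∧ ∀ g : P, g * c = c * g))
    {w : P} (hw : w ∉ Q) (hw2 : w * w = 1) :
    (Nat.card Q = 4 → Nonempty (P ≃* Equiv.Perm (Fin 4))) ∧
    (Nat.card Q = 8 → Nonempty (P ≃* Multiplicative (ZMod 2) × Equiv.Perm (Fin 4))) := by
  classical
  have hQmem : ∀ g, g ∈ Q ↔ φ g = 1 := fun g => by rw [← hker]; rfl
  have hQn : ∀ g : P, ∀ q ∈ Q, g * q * g⁻¹ ∈ Q := fun g q hq => by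
    rw [hQmem] at hq ⊢; rw [map_mul, map_mul, hq, mul_one, ← map_mul, mul_inv_cancel, map_one]
  have hsix : Nat.card P = Nat.card Q * 6 := by
    rw [← hker, ← Subgroup.card_mul_index φ.ker, Subgroup.index_ker,
      MonoidHom.range_eq_top.mpr hφ, Subgroup.card_top, Nat.card_eq_fintype_card (α := Equiv.Perm (Fin 3))]
    rfl
  haveI : Fact (Nat.Prime 3) := ⟨Nat.prime_three⟩
  obtain ⟨d, hd⟩ := exists_prime_orderOf_dvd_card' (G := P) 3 ⟨Nat.card Q * 2, by omega⟩
  have hd3 : d * d * d = 1 := by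
    have := pow_orderOf_eq_one d
    rwa [hd, pow_succ, pow_two] at this
  have hd1 : d ≠ 1 := fun e => by rw [e, orderOf_one] at hd; omega
  have hdQ : d ∉ Q := fun e => hd1 (by
    have := hsq d e
    rwa [this, one_mul] at hd3)
  have hφd : φ d ≠ 1 := fun e => hdQ ((hQmem d).mpr e)
  have hφw : φ w ≠ 1 := fun e => hw ((hQmem w).mpr e)
  obtain ⟨pwd, pdd, pall⟩ := perm_three_facts (φ d) (φ w)
    (by rw [← map_mul, ← map_mul, hd3, map_one]) hφd (by rw [← map_mul, hw2, map_one]) hφw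
  set σ : P → P := fun q => d * q * d⁻¹ with hσ
  have σmul : ∀ a b, σ (a * b) = σ a * σ b := fun a b => by simp only [hσ]; group
  have σQ : ∀ q ∈ Q, σ q ∈ Q := fun q hq => hQn d q hq
  have σ3 : ∀ q, σ (σ (σ q)) = q := fun q => by
    simp only [hσ]
    rw [show d * (d * (d * q * d⁻¹) * d⁻¹) * d⁻¹ = (d * d * d) * q * (d * d * d)⁻¹ by group, hd3]
    group
  have n_fix : ∀ q ∈ Q, σ (q * σ q * σ (σ q)) = q * σ q * σ (σ q) := fun q hq => by
    rw [σmul, σmul, σ3, hcomm _ (mul_mem (σQ q hq) (σQ _ (σQ q hq))) q hq, ← mul_assoc]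
  let E : Subgroup P :=
    { carrier := {e | ∃ q ∈ Q, e = q * σ q}
      one_mem' := ⟨1, one_mem _, by simp [hσ]⟩
      mul_mem' := by
        rintro a b ⟨q, hq, rfl⟩ ⟨r, hr, rfl⟩
        refine ⟨q * r, mul_mem hq hr, ?_⟩
        rw [σmul]
        calc q * σ q * (r * σ r) = q * (σ q * r) * σ r := by group
          _ = q * (r * σ q) * σ r := by rw [hcomm _ (σQ q hq) r hr]
          _ = q * r * (σ q * σ r) := by group
      inv_mem' := by
        rintro a ⟨q, hq, rfl⟩
        refine ⟨q, hq, ?_⟩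
        rw [← eq_inv_of_mul_eq_one_left (hsq _ (mul_mem hq (σQ q hq)))] }
  have hEQ : E ≤ Q := fun e ⟨q, hq, he⟩ => he ▸ mul_mem hq (σQ q hq)
  have hEd : ∀ e ∈ E, σ e ∈ E := fun e ⟨q, hq, he⟩ => ⟨σ q, σQ q hq, he ▸ σmul _ _⟩
  let C : Subgroup P :=
    { carrier := {c | c ∈ Q ∧ σ c = c}
      one_mem' := ⟨one_mem _, by simp [hσ]⟩
      mul_mem' := fun {a b} ha hb => ⟨mul_mem ha.1 hb.1, by rw [σmul, ha.2, hb.2]⟩
      inv_mem' := fun {a} ha => by
        rw [← eq_inv_of_mul_eq_one_left (hsq a ha.1)]; exact ha }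
  have hEC : ∀ x ∈ E, x ∈ C → x = 1 := by
    rintro e ⟨q, hq, rfl⟩ ⟨-, hf⟩
    rw [σmul, hcomm q hq _ (σQ q hq)] at hf
    have h2 : σ (σ q) = q := mul_left_cancel hf
    have h1 : σ q = q := by
      have := congrArg σ h2
      rwa [σ3, eq_comm] at this
    rw [h1, hsq q hq]
  have hsplit : ∀ q ∈ Q, ∃ c ∈ C, ∃ e ∈ E, q = c * e := fun q hq => by
    refine ⟨q * σ q * σ (σ q), ⟨mul_mem (mul_mem hq (σQ q hq)) (σQ _ (σQ q hq)), n_fix q hq⟩,
      σ q * σ (σ q), ⟨σ q, σQ q hq, rfl⟩, ?_⟩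
    have h := hsq _ (mul_mem (σQ q hq) (σQ _ (σQ q hq)))
    calc q = q * ((σ q * σ (σ q)) * (σ q * σ (σ q))) := by rw [h, mul_one]
      _ = _ := by group
  let g : ↥C × ↥E → ↥Q := fun p => ⟨p.1.1 * p.2.1, mul_mem p.1.2.1 (hEQ p.2.2)⟩
  have hg : Function.Bijective g := by
    constructor
    · rintro ⟨⟨a, ha⟩, ⟨b, hb⟩⟩ ⟨⟨a', ha'⟩, ⟨b', hb'⟩⟩ e
      have e' : a * b = a' * b' := congrArg Subtype.val e
      have h1 : a'⁻¹ * a = b' * b⁻¹ := by
        rw [inv_mul_eq_iff_eq_mul, ← mul_assoc, ← e', mul_inv_cancel_right]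
      have h2 := hEC _ (mul_mem hb' (inv_mem hb)) (h1 ▸ mul_mem (inv_mem ha') ha)
      have hbb : b' = b := mul_inv_eq_one.mp h2
      subst hbb
      obtain rfl := mul_right_cancel e'
      rfl
    · rintro ⟨q, hq⟩
      obtain ⟨c, hc, e, he, rfl⟩ := hsplit q hq
      exact ⟨(⟨c, hc⟩, ⟨e, he⟩), rfl⟩
  have hQcard : Nat.card Q = Nat.card C * Nat.card E := by
    rw [← Nat.card_congr (Equiv.ofBijective g hg), Nat.card_prod]
  obtain ⟨e₁, he₁, he₁1⟩ : ∃ e ∈ E, e ≠ 1 := by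
    by_contra hno
    simp only [not_exists, not_and, not_not] at hno
    refine hdQ (hcent d fun q hq => ?_)
    have := hno _ ⟨q, hq, rfl⟩
    have h1 : σ q = q := by
      rw [eq_inv_of_mul_eq_one_right this, ← eq_inv_of_mul_eq_one_left (hsq q hq)]
    calc d * q = σ q * d := by simp only [hσ]; group
      _ = q * d := by rw [h1]
  have hE4 : 4 ≤ Nat.card E := by
    have hfix : σ e₁ ≠ e₁ := fun e => he₁1 (hEC e₁ he₁ ⟨hEQ he₁, e⟩)
    have hs1 : σ e₁ ≠ 1 := fun e => he₁1 (by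
      have := congrArg σ e
      have h1 : σ 1 = 1 := by simp [hσ]
      rw [h1] at this
      have := congrArg σ this
      rwa [σ3, h1] at this)
    let v : Fin 4 → ↥E := ![⟨1, one_mem _⟩, ⟨e₁, he₁⟩, ⟨σ e₁, hEd _ he₁⟩,
      ⟨e₁ * σ e₁, mul_mem he₁ (hEd _ he₁)⟩]
    have h3 : e₁ * σ e₁ ≠ 1 := fun e => hfix (by
      rw [eq_inv_of_mul_eq_one_right e, ← eq_inv_of_mul_eq_one_left (hsq _ (hEQ he₁))])
    have hv : Function.Injective v := by
      intro i j e
      have e' := congrArg Subtype.val e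
      fin_cases i <;> fin_cases j <;> simp [v] at e' ⊢
      all_goals first
        | exact he₁1 e' | exact he₁1 e'.symm | exact hs1 e' | exact hs1 e'.symm
        | exact hfix e' | exact hfix e'.symm | exact h3 e' | exact h3 e'.symm
    simpa using Nat.card_le_card_of_injective v hv
  obtain ⟨hCE, hCc, hC12⟩ : Nat.card E = 4 ∧ (∀ c ∈ C, ∀ g : P, g * c = c * g) ∧
      Nat.card Q = 4 * Nat.card C := by
    rcases hcard with h4 | ⟨h8, c, hc, hc1, hcc⟩
    · have hC1 : Nat.card C = 1 := by nlinarith [Nat.card_pos (α := C)]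
      refine ⟨by rw [h4, hC1, one_mul] at hQcard; omega, fun x hx g => ?_, by omega⟩
      rw [Subgroup.card_eq_one.mp hC1, Subgroup.mem_bot] at hx
      rw [hx, mul_one, one_mul]
    · have hcC : c ∈ C := ⟨hc, by simp only [hσ]; rw [hcc d, mul_inv_cancel_right]⟩
      have h2 : 2 ≤ Nat.card C := by
        haveI : Nontrivial C := ⟨⟨⟨c, hcC⟩, 1, fun e => hc1 (congrArg Subtype.val e)⟩⟩
        exact Finite.one_lt_card
      have hC2 : Nat.card C = 2 := by nlinarith
      refine ⟨by rw [h8, hC2] at hQcard; omega, fun x hx g => ?_, by omega⟩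
      obtain ⟨a, b, hab, hu⟩ := Nat.card_eq_two_iff.mp hC2
      have hall : ∀ z : C, z = 1 ∨ z = ⟨c, hcC⟩ := fun z => by
        have h0 : (1 : C) ≠ ⟨c, hcC⟩ := fun e => hc1 (congrArg Subtype.val e).symm
        have m : ∀ t : C, t = a ∨ t = b := fun t => by
          have := Set.eq_univ_iff_forall.mp hu t
          simpa using this
        rcases m z with r | r <;> rcases m 1 with u | u <;> rcases m ⟨c, hcC⟩ with o | o
        all_goals first
          | exact Or.inl (r.trans u.symm) | exact Or.inr (r.trans o.symm)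
          | exact absurd (u.trans o.symm) h0
      rcases hall ⟨x, hx⟩ with e | e
      · rw [show x = 1 from congrArg Subtype.val e, mul_one, one_mul]
      · rw [show x = c from congrArg Subtype.val e]; exact hcc g
  -- the involution inverting `d`
  set q := w * d * w * d with hq'
  have hqQ : q ∈ Q := (hQmem _).mpr (by
    simp only [hq', map_mul]
    rw [pwd, ← map_mul, ← map_mul, hd3, map_one])
  have hwdw : w * d * w = q * d⁻¹ := by simp only [hq']; group
  have hn : q * σ q * σ (σ q) = 1 := by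
    have h3 : (q * d⁻¹) * (q * d⁻¹) * (q * d⁻¹) = 1 := by
      rw [← hwdw, show w * d * w * (w * d * w) * (w * d * w)
        = w * d * (w * w) * d * (w * w) * d * w by group, hw2,
        show w * d * 1 * d * 1 * d * w = w * (d * d * d) * w by group, hd3, mul_one, hw2]
    rw [show (q * d⁻¹) * (q * d⁻¹) * (q * d⁻¹)
      = q * ((d⁻¹ * q * d) * (d⁻¹ * d⁻¹ * q * d * d)) * (d * d * d)⁻¹ by group, hd3, inv_one,
      mul_one] at h3
    have e1 : d⁻¹ * q * d = σ (σ q) := by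
      simp only [hσ]; rw [show d⁻¹ = d * d from (eq_inv_of_mul_eq_one_left hd3).symm]
      rw [show d * (d * q * (d * d)) * (d * d) = d * d * q * (d * d * d) * d by group, hd3]
      group
    have e2 : d⁻¹ * d⁻¹ * q * d * d = σ q := by
      rw [show d⁻¹ * d⁻¹ * q * d * d = d⁻¹ * (d⁻¹ * q * d) * d by group, e1]
      simp only [hσ]; group
    rw [e1, e2, hcomm _ (σQ _ (σQ q hqQ)) _ (σQ q hqQ), ← mul_assoc] at h3
    exact h3
  have hqE : q ∈ E := ⟨σ q, σQ q hqQ, by
    calc q = q * ((σ q * σ (σ q)) * (σ q * σ (σ q))) := by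
          rw [hsq _ (mul_mem (σQ q hqQ) (σQ _ (σQ q hqQ))), mul_one]
      _ = (q * σ q * σ (σ q)) * (σ q * σ (σ q)) := by group
      _ = _ := by rw [hn, one_mul]⟩
  set r := σ (σ q) with hr
  have hrE : r ∈ E := hEd _ (hEd _ hqE)
  have hrQ : r ∈ Q := hEQ hrE
  set s := r * w with hs'
  have hri : r⁻¹ = r := (eq_inv_of_mul_eq_one_left (hsq r hrQ)).symm
  have hwi : w⁻¹ = w := (eq_inv_of_mul_eq_one_left hw2).symm
  have hrr : r * σ (σ r) = q := by
    rw [hr, σ3 q, hcomm _ (σQ _ (σQ q hqQ)) _ (σQ q hqQ)]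
    calc σ q * σ (σ q) = (q * q) * (σ q * σ (σ q)) := by rw [hsq q hqQ, one_mul]
      _ = q * (q * σ q * σ (σ q)) := by group
      _ = q := by rw [hn, mul_one]
  have hEw : ∀ e ∈ E, w * e * w ∈ E := by
    rintro e ⟨x, hx, rfl⟩
    set x' := w * x * w with hx'
    have hx'Q : x' ∈ Q := by have := hQn w x hx; rwa [hwi] at this
    refine ⟨σ (σ x'), σQ _ (σQ _ hx'Q), ?_⟩
    have e1 : w * σ x * w = σ (σ x') := by
      have : w * σ x * w = (w * d * w) * x' * (w * d * w)⁻¹ := by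
        simp only [hσ, hx']
        rw [mul_inv_rev, mul_inv_rev, hwi,
          show w * d * w * (w * x * w) * (w * (d⁻¹ * w))
            = w * d * (w * w) * x * (w * w) * d⁻¹ * w by group, hw2]
        group
      rw [this, hwdw, show q * d⁻¹ * x' * (q * d⁻¹)⁻¹ = q * (d⁻¹ * x' * d) * q⁻¹ by group]
      have e2 : d⁻¹ * x' * d = σ (σ x') := by
        simp only [hσ]; rw [show d⁻¹ = d * d from (eq_inv_of_mul_eq_one_left hd3).symm]
        rw [show d * (d * x' * (d * d)) * (d * d) = d * d * x' * (d * d * d) * d by group, hd3]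
        group
      rw [e2, hcomm q hqQ _ (σQ _ (σQ _ hx'Q)), mul_inv_cancel_right]
    rw [σ3, show w * (x * σ x) * w = (w * x * w) * (w * σ x * w) by
      rw [show (w * x * w) * (w * σ x * w) = w * x * (w * w) * σ x * w by group, hw2]; group,
      e1, hcomm _ hx'Q _ (σQ _ (σQ _ hx'Q))]
  have hsd : s * d * s⁻¹ = d⁻¹ := by
    rw [hs', mul_inv_rev, hwi, hri, show r * w * d * (w * r) = r * (w * d * w) * r by group,
      hwdw, show r * (q * d⁻¹) * r = r * q * (d⁻¹ * r * d) * d⁻¹ by group]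
    have e2 : d⁻¹ * r * d = σ (σ r) := by
      simp only [hσ]; rw [show d⁻¹ = d * d from (eq_inv_of_mul_eq_one_left hd3).symm]
      rw [show d * (d * r * (d * d)) * (d * d) = d * d * r * (d * d * d) * d by group, hd3]
      group
    rw [e2, hcomm r hrQ q hqQ, mul_assoc q, hrr, hsq q hqQ, one_mul]
  have hs2 : s * s = 1 := by
    have h1 : s * s ∈ E := by
      rw [hs', show r * w * (r * w) = r * (w * r * w) by group]
      exact mul_mem hrE (hEw r hrE)
    refine hEC _ h1 ⟨hEQ h1, ?_⟩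
    have h2 : s * d⁻¹ * s⁻¹ = d := by rw [show s * d⁻¹ * s⁻¹ = (s * d * s⁻¹)⁻¹ by group, hsd, inv_inv]
    have h3 : (s * s) * d * (s * s)⁻¹ = d := by
      rw [show (s * s) * d * (s * s)⁻¹ = s * (s * d * s⁻¹) * s⁻¹ by group, hsd, h2]
    simp only [hσ]
    calc d * (s * s) * d⁻¹ = (s * s * d * (s * s)⁻¹) * (s * s) * d⁻¹ := by rw [h3]
      _ = s * s := by group
  have hsinv : s⁻¹ = s := (eq_inv_of_mul_eq_one_left hs2).symm
  have hsdd : s * d * s = d * d := by
    rw [hsinv] at hsd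
    rw [hsd]; exact (eq_inv_of_mul_eq_one_left hd3).symm
  have hEs : ∀ e ∈ E, s * e * s ∈ E := fun e he => by
    have h1 : s * e * s⁻¹ = r * (w * e * w) * r := by
      rw [hs', mul_inv_rev, hwi, hri]; group
    rw [hsinv] at h1
    rw [h1]; exact mul_mem (mul_mem hrE (hEw e he)) hrE
  have hCd : ∀ c ∈ C, d * c * d⁻¹ ∈ C := fun c hc => by
    rw [hCc c hc d, mul_inv_cancel_right]; exact hc
  have hCs : ∀ c ∈ C, s * c * s ∈ C := fun c hc => by
    rw [hCc c hc s, mul_assoc, hs2, mul_one]; exact hc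
  have hφs : φ s = φ w := by rw [hs', map_mul, (hQmem r).mp hrQ, one_mul]
  have meetQ : ∀ (A : Subgroup P), A ≤ Q → (∀ a ∈ A, d * a * d⁻¹ ∈ A) →
      (∀ a ∈ A, s * a * s ∈ A) → ∀ x ∈ Subgroup.closure ((A : Set P) ∪ {d, s}), x ∈ Q → x ∈ A := by
    intro A hA h1 h2 x hx hxQ
    obtain ⟨a, ha, i, j, rfl⟩ := form hd3 hs2 hsdd h1 h2 hx
    have he := (hQmem _).mp hxQ
    rw [map_mul, map_mul, (hQmem a).mp (hA ha), one_mul, map_pow, map_pow, hφs] at he
    rcases Nat.even_or_odd j with ⟨k, hk⟩ | ⟨k, hk⟩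
    · have hj : (φ w) ^ j = 1 := by rw [hk, ← two_mul, pow_mul, pow_two, ← map_mul, hw2, map_one, one_pow]
      have hsj : s ^ j = 1 := by rw [hk, ← two_mul, pow_mul, pow_two, hs2, one_pow]
      rw [hj, mul_one] at he
      have h3 : orderOf (φ d) = 3 := by
        refine orderOf_eq_prime ?_ hφd
        rw [← map_pow, show d ^ 3 = d * d * d by rw [pow_succ, pow_two], hd3, map_one]
      have hi : 3 ∣ i := h3 ▸ orderOf_dvd_of_pow_eq_one he
      obtain ⟨l, rfl⟩ := hi
      rw [hsj, pow_mul, show d ^ 3 = d * d * d by rw [pow_succ, pow_two], hd3, one_pow, mul_one,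
        mul_one]
      exact ha
    · have hj : (φ w) ^ j = φ w := by
        rw [hk, pow_succ, pow_mul, pow_two, ← map_mul, hw2, map_one, one_pow, one_mul]
      rw [hj] at he
      have hwe : φ w = ((φ d) ^ i)⁻¹ := eq_inv_of_mul_eq_one_right he
      have hcm : φ w * φ d = φ d * φ w := by
        rw [hwe]; exact (((Commute.refl (φ d)).pow_right i).inv_right.symm).eq
      rw [hcm, mul_assoc, ← map_mul φ w, hw2, map_one, mul_one] at pwd
      exact absurd pwd.symm pdd
  set H : Subgroup P := Subgroup.closure ((E : Set P) ∪ {d, s}) with hH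
  set N : Subgroup P := Subgroup.closure ((C : Set P) ∪ {d, s}) with hN
  have hEH : E ≤ H := fun x hx => Subgroup.subset_closure (Or.inl hx)
  have hCN : C ≤ N := fun x hx => Subgroup.subset_closure (Or.inl hx)
  have hdec : ∀ x : P, ∃ c ∈ C, ∃ h ∈ H, x = c * h ∧ ∃ e ∈ E, ∃ n ∈ N, x = e * n := by
    intro x
    obtain ⟨i, j, hij⟩ := pall (φ x)
    have hQx : x * (d ^ (i : ℕ) * s ^ (j : ℕ))⁻¹ ∈ Q := (hQmem _).mpr (by
      rw [map_mul, map_inv, map_mul, map_pow, map_pow, hφs, ← hij, mul_inv_cancel])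
    obtain ⟨c, hc, e, he, hce⟩ := hsplit _ hQx
    rw [mul_inv_eq_iff_eq_mul] at hce
    have hm : ∀ S : Subgroup P, d ∈ S → s ∈ S → d ^ (i : ℕ) * s ^ (j : ℕ) ∈ S := fun S h1 h2 =>
      mul_mem (pow_mem h1 _) (pow_mem h2 _)
    refine ⟨c, hc, e * (d ^ (i : ℕ) * s ^ (j : ℕ)), mul_mem (hEH he) (hm H
      (Subgroup.subset_closure (Or.inr (Or.inl rfl)))
      (Subgroup.subset_closure (Or.inr (Or.inr rfl)))), by rw [hce]; group, e, he,
      c * (d ^ (i : ℕ) * s ^ (j : ℕ)), mul_mem (hCN hc) (hm N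
      (Subgroup.subset_closure (Or.inr (Or.inl rfl)))
      (Subgroup.subset_closure (Or.inr (Or.inr rfl)))), ?_⟩
    rw [hce, hCc c hc e |>.symm]; group
  have hHC : ∀ x ∈ C, x ∈ H → x = 1 := fun x hx hx' =>
    hEC x (meetQ E hEQ hEd hEs x hx' hx.1) hx
  have hNE : ∀ x ∈ E, x ∈ N → x = 1 := fun x hx hx' =>
    hEC x hx (meetQ C (fun y hy => hy.1) hCd hCs x hx' (hEQ hx))
  have hEnorm : ∀ g : P, ∀ e ∈ E, g * e * g⁻¹ ∈ E := by
    intro g e he
    obtain ⟨c, hc, x, hx, rfl, -⟩ := hdec g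
    obtain ⟨a, ha, i, j, rfl⟩ := form hd3 hs2 hsdd hEd hEs hx
    have h1 : ∀ j : ℕ, ∀ e ∈ E, s ^ j * e * (s ^ j)⁻¹ ∈ E := by
      intro j
      induction j with
      | zero => intro e he; simpa using he
      | succ j ih =>
        intro e he
        have := hEs _ (ih e he)
        rwa [show s * (s ^ j * e * (s ^ j)⁻¹) * s = s ^ (j + 1) * e * (s ^ (j + 1))⁻¹ by
          conv_lhs => arg 2; rw [← hsinv]
          rw [pow_succ']; group] at this
    have h2 : ∀ i : ℕ, ∀ e ∈ E, d ^ i * e * (d ^ i)⁻¹ ∈ E := by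
      intro i
      induction i with
      | zero => intro e he; simpa using he
      | succ i ih =>
        intro e he
        have := hEd _ (ih e he)
        simp only [hσ] at this
        rwa [show d * (d ^ i * e * (d ^ i)⁻¹) * d⁻¹ = d ^ (i + 1) * e * (d ^ (i + 1))⁻¹ by
          rw [pow_succ']; group] at this
    have h3 := mul_mem (mul_mem ha (h2 i _ (h1 j e he))) (inv_mem ha)
    rw [show c * (a * d ^ i * s ^ j) * e * (c * (a * d ^ i * s ^ j))⁻¹
      = c * (a * (d ^ i * (s ^ j * e * (s ^ j)⁻¹) * (d ^ i)⁻¹) * a⁻¹) * c⁻¹ by group,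
      ← hCc c hc, mul_inv_cancel_right]
    exact h3
  let π : P →* Equiv.Perm (P ⧸ N) := MulAction.toPermHom P (P ⧸ N)
  have hπ : π.ker = C := by
    rw [← Subgroup.normalCore_eq_ker]
    refine le_antisymm (fun m hm => ?_) fun c hc g => ?_
    · have hmN : m ∈ N := Subgroup.normalCore_le N hm
      have hmQ : m ∈ Q := hcent m fun x hx => by
        obtain ⟨c, hc, e, he, rfl⟩ := hsplit x hx
        have h1 : e * (m * e⁻¹ * m⁻¹) ∈ E := mul_mem he (hEnorm m _ (inv_mem he))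
        have h2 : e * (m * e⁻¹ * m⁻¹) ∈ N := by
          rw [show e * (m * e⁻¹ * m⁻¹) = (e * m * e⁻¹) * m⁻¹ by group]
          exact mul_mem (Subgroup.normalCore_le N ((Subgroup.normalCore_normal N).conj_mem m hm e))
            (inv_mem hmN)
        have h3 := hNE _ h1 h2
        have hme : m * e = e * m := by
          calc m * e = e * (m * e⁻¹ * m⁻¹) * (m * e) := by rw [h3, one_mul]
            _ = e * m := by group
        calc m * (c * e) = (m * c) * e := by group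
          _ = c * (m * e) := by rw [hCc c hc m, mul_assoc]
          _ = c * e * m := by rw [hme, mul_assoc]
      exact meetQ C (fun y hy => hy.1) hCd hCs m hmN hmQ
    · rw [hCc c hc g, mul_inv_cancel_right]; exact hCN hc
  let ν : ↥E → P ⧸ N := fun e => (e.1 : P)
  have hν : Function.Bijective ν := by
    constructor
    · intro a b e
      have hm := QuotientGroup.eq.mp e
      exact Subtype.ext (inv_mul_eq_one.mp (hNE _ (mul_mem (inv_mem a.2) b.2) hm))
    · intro x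
      induction x using QuotientGroup.induction_on with
      | H x =>
        obtain ⟨-, -, -, -, -, e, he, n, hn, rfl⟩ := hdec x
        exact ⟨⟨e, he⟩, QuotientGroup.eq.mpr (by simpa using hn)⟩
  haveI : Fintype (P ⧸ N) := Fintype.ofFinite _
  have hq4 : Fintype.card (P ⧸ N) = 4 := by
    rw [← Nat.card_eq_fintype_card, ← Nat.card_congr (Equiv.ofBijective ν hν), hCE]
  let π' : P →* Equiv.Perm (Fin 4) :=
    (Fintype.equivFinOfCardEq hq4).permCongrHom.toMonoidHom.comp π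
  let m : ↥C × ↥H →* P :=
    { toFun := fun p => p.1.1 * p.2.1
      map_one' := one_mul 1
      map_mul' := fun p p' => by
        show (p.1.1 * p'.1.1) * (p.2.1 * p'.2.1) = p.1.1 * p.2.1 * (p'.1.1 * p'.2.1)
        calc (p.1.1 * p'.1.1) * (p.2.1 * p'.2.1) = p.1.1 * (p'.1.1 * p.2.1) * p'.2.1 := by group
          _ = p.1.1 * (p.2.1 * p'.1.1) * p'.2.1 := by rw [hCc _ p'.1.2 p.2.1]
          _ = _ := by group }
  have hm : Function.Bijective m := by
    constructor
    · refine (injective_iff_map_eq_one m).mpr fun p hp => ?_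
      have hp' : p.1.1 * p.2.1 = 1 := hp
      have h1 : p.2.1 = p.1.1⁻¹ := eq_inv_of_mul_eq_one_right hp'
      have h2 : p.2.1 = 1 := hHC _ (h1 ▸ inv_mem p.1.2) p.2.2
      exact Prod.ext (Subtype.ext (by rwa [h2, mul_one] at hp')) (Subtype.ext h2)
    · intro x
      obtain ⟨c, hc, h, hh, e, -⟩ := hdec x
      exact ⟨(⟨c, hc⟩, ⟨h, hh⟩), e.symm⟩
  have hHcard : Nat.card H = 24 := by
    have h := Nat.card_congr (Equiv.ofBijective m hm)
    rw [Nat.card_prod, hsix, hC12] at h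
    have hp : 0 < Nat.card C := Nat.card_pos
    exact Nat.eq_of_mul_eq_mul_left hp (h.trans (by ring))
  have hρ : Function.Bijective (π'.comp H.subtype) := by
    rw [Nat.bijective_iff_injective_and_card]
    refine ⟨(injective_iff_map_eq_one _).mpr fun x hx => ?_, ?_⟩
    · have hx' : (x : P) ∈ π.ker := by
        have : (Fintype.equivFinOfCardEq hq4).permCongrHom (π x.1) = 1 := hx
        exact (MulEquiv.map_eq_one_iff _).mp this
      rw [hπ] at hx'
      exact Subtype.ext (hHC _ hx' x.2)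
    · rw [hHcard, Nat.card_eq_fintype_card (α := Equiv.Perm (Fin 4))]
      rfl
  let eH : ↥H ≃* Equiv.Perm (Fin 4) := MulEquiv.ofBijective _ hρ
  let eP : P ≃* ↥C × Equiv.Perm (Fin 4) :=
    (MulEquiv.ofBijective m hm).symm.trans (MulEquiv.prodCongr (MulEquiv.refl _) eH)
  refine ⟨fun h4 => ?_, fun h8 => ?_⟩
  · have hC1 : Nat.card C = 1 := by omega
    haveI : Unique ↥C := @Unique.mk' _ ⟨1⟩ (Nat.card_eq_one_iff_unique.mp hC1).1
    exact ⟨eP.trans MulEquiv.uniqueProd⟩
  · have hC2 : Nat.card C = 2 := by omega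
    haveI : Fact (Nat.Prime 2) := ⟨Nat.prime_two⟩
    have e1 : ↥C ≃* Multiplicative (ZMod 2) :=
      (zmodCyclicMulEquiv (isCyclic_of_prime_card (p := 2) hC2)).symm.trans
        (AddEquiv.toMultiplicative (ZMod.ringEquivCongr hC2).toAddEquiv)
    exact ⟨eP.trans (MulEquiv.prodCongr e1 (MulEquiv.refl _))⟩

end CfsgLib.S3Amalgam
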