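import Cfsg.Agent.Lib.S3Amalgam.Graph

/-!
Critical pairs: in an amalgam with symmetric residues of degree three in which neither vertex
group centralises the elements of order two in the centre of the edge group, the critical
distance is one.
-/

set_option autoImplicit false
set_option linter.unusedSectionVars false

namespace CfsgLib.S3Amalgam

open MulAction

variable {G : Type*} [Group G] {Ω : Type*} [MulAction G Ω] (D : Am G Ω)

namespace Am

/-- Walks of prescribed length. -/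
def Walk : ℕ → Ω → Ω → Prop
  | 0, x, y => x = y
  | n + 1, x, y => ∃ z, D.Adj x z ∧ Walk n z y

theorem walk_zero (x : Ω) : D.Walk 0 x x := rfl

theorem walk_cons {n : ℕ} {x y z : Ω} (h : D.Adj x y) (hw : D.Walk n y z) : D.Walk (n + 1) x z :=
  ⟨y, h, hw⟩

theorem walk_one {x y : Ω} (h : D.Adj x y) : D.Walk 1 x y := D.walk_cons h (D.walk_zero y)

theorem walk_append {n m : ℕ} {x y z : Ω} (h : D.Walk n x y) (h' : D.Walk m y z) :
    D.Walk (n + m) x z := by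
  induction n generalizing x with
  | zero => rw [Nat.zero_add]; rw [show x = y from h]; exact h'
  | succ n ih =>
    obtain ⟨u, hu, hw⟩ := h
    rw [Nat.add_right_comm]
    exact D.walk_cons hu (ih hw)

theorem walk_snoc {n : ℕ} {x y z : Ω} (h : D.Walk n x y) (h' : D.Adj y z) :
    D.Walk (n + 1) x z := D.walk_append h (D.walk_one h')

theorem walk_last {n : ℕ} {x z : Ω} (h : D.Walk (n + 1) x z) :
    ∃ y, D.Walk n x y ∧ D.Adj y z := by
  induction n generalizing x with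
  | zero =>
    obtain ⟨u, hu, hw⟩ := h
    exact ⟨x, rfl, (show u = z from hw) ▸ hu⟩
  | succ n ih =>
    obtain ⟨u, hu, hw⟩ := h
    obtain ⟨y, hy, hyz⟩ := ih hw
    exact ⟨y, D.walk_cons hu hy, hyz⟩

theorem walk_symm {n : ℕ} {x y : Ω} (h : D.Walk n x y) : D.Walk n y x := by
  induction n generalizing x with
  | zero => exact (show x = y from h).symm
  | succ n ih =>
    obtain ⟨u, hu, hw⟩ := h
    exact D.walk_snoc (ih hw) (D.symm hu)

theorem walk_smul (g : G) {n : ℕ} {x y : Ω} (h : D.Walk n x y) : D.Walk n (g • x) (g • y) := by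
  induction n generalizing x with
  | zero => exact congrArg (g • ·) (show x = y from h)
  | succ n ih =>
    obtain ⟨u, hu, hw⟩ := h
    exact D.walk_cons (D.equiv g hu) (ih hw)

/-- No pair of vertices at distance less than `b` is critical. -/
def Below (b : ℕ) : Prop := ∀ n < b, ∀ x y, D.Walk n x y → D.V (G := G) x ≤ D.Q y

theorem exists_critical {x₀ y₀ : Ω} (h : D.Adj x₀ y₀) :
    ∃ b, 1 ≤ b ∧ D.Below b ∧ ∃ a a', D.Walk b a a' ∧ ¬ D.V (G := G) a ≤ D.Q a' := by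
  classical
  have hex : ∃ b, ∃ a a', D.Walk b a a' ∧ ¬ D.V (G := G) a ≤ D.Q a' := by
    by_contra hno
    simp only [not_exists, not_and, not_not] at hno
    let S : Subgroup G :=
      { carrier := {g | ∃ n, D.Walk n x₀ (g • x₀)}
        one_mem' := ⟨0, (one_smul G x₀).symm⟩
        mul_mem' := by
          rintro a b ⟨n, hn⟩ ⟨m, hm⟩
          exact ⟨n + m, by rw [mul_smul]; exact D.walk_append hn (D.walk_smul a hm)⟩
        inv_mem' := by
          rintro a ⟨n, hn⟩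
          have := D.walk_symm (D.walk_smul a⁻¹ hn)
          rw [inv_smul_smul] at this
          exact ⟨n, this⟩ }
    have hS : ∀ g : G, g ∈ S := fun g => by
      have hg : g ∈ stabilizer G x₀ ⊔ stabilizer G y₀ := by rw [D.gen h]; trivial
      refine (sup_le ?_ ?_ : stabilizer G x₀ ⊔ stabilizer G y₀ ≤ S) hg
      · intro k hk; exact ⟨0, (show k • x₀ = x₀ from hk).symm⟩
      · intro k hk
        exact ⟨2, D.walk_cons h (D.walk_one (D.adj_smul_of_fix hk (D.symm h)))⟩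
    refine D.V_ne_bot h ((Subgroup.eq_bot_iff_forall _).mpr fun v hv => D.faith v fun u => ?_)
    obtain ⟨g, rfl | rfl⟩ := D.eq_smul h u
    · obtain ⟨n, hn⟩ := hS g
      exact (hno n x₀ _ hn hv).1
    · obtain ⟨n, hn⟩ := hS g
      exact (hno (n + 1) x₀ _ (D.walk_snoc hn (D.equiv g h)) hv).1
  refine ⟨Nat.find hex, ?_, fun n hn x y hw => ?_, Nat.find_spec hex⟩
  · by_contra hlt
    obtain ⟨a, a', hw, hne⟩ := Nat.find_spec hex
    rw [show Nat.find hex = 0 by omega] at hw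
    exact hne ((show a = a' from hw) ▸ D.V_le_Q a)
  · by_contra hne
    exact Nat.find_min hex hn ⟨x, y, hw, hne⟩

/-- A critical pair with its first and its last edge. -/
structure Crit (b : ℕ) (a a₁ a'' a' : Ω) : Prop where
  hb : 1 ≤ b
  below : D.Below (G := G) b
  adj : D.Adj a a₁
  adj' : D.Adj a'' a'
  w₁ : D.Walk (b - 1) a₁ a'
  w₂ : D.Walk (b - 1) a a''
  ncrit : ¬ D.V (G := G) a ≤ D.Q a'

variable {b : ℕ} {a a₁ a'' a' : Ω}

theorem exists_crit (hb : 1 ≤ b) (hB : D.Below (G := G) b) (hw : D.Walk b a a')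
    (hne : ¬ D.V (G := G) a ≤ D.Q a') : ∃ a₁ a'', D.Crit b a a₁ a'' a' := by
  obtain ⟨n, rfl⟩ : ∃ n, b = n + 1 := ⟨b - 1, by omega⟩
  obtain ⟨a'', h1, h2⟩ := D.walk_last hw
  obtain ⟨a₁, h3, h4⟩ := hw
  exact ⟨a₁, a'', hb, hB, h3, h2, h4, h1, hne⟩

theorem Crit.V_le (h : D.Crit b a a₁ a'' a') : D.V (G := G) a ≤ T a'' a' :=
  (h.below (b - 1) (by have := h.hb; omega) a a'' h.w₂).trans (D.Q_le_T h.adj')

theorem Crit.V_le' (h : D.Crit b a a₁ a'' a') : D.V (G := G) a' ≤ T a a₁ := by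
  rw [T_comm]
  exact (h.below (b - 1) (by have := h.hb; omega) a' a₁ (D.walk_symm h.w₁)).trans
    (D.Q_le_T (D.symm h.adj))

theorem Crit.rev (h : D.Crit b a a₁ a'' a') : D.Crit b a' a'' a₁ a := by
  refine ⟨h.hb, h.below, D.symm h.adj', D.symm h.adj, D.walk_symm h.w₂, D.walk_symm h.w₁,
    fun hle => h.ncrit fun v hv => D.V_centralizer (h.V_le D hv).2 fun w hw => ?_⟩
  exact (D.V_comm hv (hle hw)).symm

theorem Crit.exists_out (h : D.Crit b a a₁ a'' a') : ∃ u ∈ D.V (G := G) a, u ∉ D.Q a' :=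
  SetLike.not_le_iff_exists.mp h.ncrit

theorem Crit.exists_com (h : D.Crit b a a₁ a'' a') :
    ∃ c : G, c ≠ 1 ∧ c ∈ D.V a ∧ c ∈ D.V a' ∧ c ∈ zed (T a a₁) ∧ c ∈ zed (T a'' a') ∧
      (∀ u ∈ D.V a, u ∉ D.Q a' → ∀ w ∈ D.V a', w ∉ D.Q a → w * u * w = c * u) ∧
      (∀ v ∈ T a'' a', ∀ w ∈ D.V a', w ∉ D.Q a → w * v * w = v ∨ w * v * w = c * v) := by
  obtain ⟨u₀, hu₀, hu₀'⟩ := h.exists_out D
  obtain ⟨w₀, hw₀, hw₀'⟩ := (h.rev D).exists_out D
  have key : ∀ u ∈ D.V a, u ∉ D.Q a' → ∀ w ∈ D.V a', w ∉ D.Q a →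
      w * u * w * u = w₀ * u₀ * w₀ * u₀ := by
    intro u hu hu' w hw hw'
    have h1 : u₀ * u ∈ D.Q a' := D.mul_mem_Q (D.symm h.adj')
      (by rw [T_comm]; exact h.V_le D hu₀) (by rw [T_comm]; exact h.V_le D hu) hu₀' hu'
    have h2 : w₀ * w ∈ D.Q a :=
      D.mul_mem_Q h.adj (h.V_le' D hw₀) (h.V_le' D hw) hw₀' hw'
    have e1 := D.V_comm hw h1
    have e2 := D.V_comm hu₀ h2
    calc w * u * w * u = w * u₀ * (u₀ * u) * w * u := by
          simp only [mul_assoc]; rw [← mul_assoc u₀ u₀, D.V_sq hu₀, one_mul]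
      _ = w * u₀ * ((u₀ * u) * w) * u := by group
      _ = w * u₀ * (w * (u₀ * u)) * u := by rw [e1]
      _ = w * u₀ * w * u₀ := by
          simp only [mul_assoc]; rw [D.V_sq hu, mul_one]
      _ = w₀ * (w₀ * w) * u₀ * w * u₀ := by
          simp only [mul_assoc]; rw [← mul_assoc w₀ w₀, D.V_sq hw₀, one_mul]
      _ = w₀ * ((w₀ * w) * u₀) * w * u₀ := by group
      _ = w₀ * (u₀ * (w₀ * w)) * w * u₀ := by rw [e2]
      _ = w₀ * u₀ * w₀ * u₀ := by
          simp only [mul_assoc]; rw [← mul_assoc w w, D.V_sq hw, one_mul]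
  set c := w₀ * u₀ * w₀ * u₀ with hc
  have hu₀a' : u₀ • a' = a' := (h.V_le D hu₀).2
  have hw₀a : w₀ • a = a := (h.V_le' D hw₀).1
  have hca : c ∈ D.V a := by
    have := mul_mem (D.conj_V' hw₀a hu₀) hu₀
    rwa [D.V_inv hw₀] at this
  have hca' : c ∈ D.V a' := by
    have := mul_mem hw₀ (D.conj_V' hu₀a' hw₀)
    rwa [D.V_inv hu₀, ← mul_assoc, ← mul_assoc] at this
  have hcT : c ∈ zed (T a a₁) := by
    refine ⟨D.Q_le_T h.adj (D.V_le_Q a hca), D.V_sq hca, fun g hg => ?_⟩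
    by_cases hgQ : g ∈ D.Q a
    · exact D.V_comm hca hgQ
    · have e1 := D.V_comm hca (D.mul_mem_Q h.adj hg (h.V_le' D hw₀) hgQ hw₀')
      have e2 : w₀ * c = c * w₀ := D.V_comm hca' (D.V_le_Q a' hw₀)
      rw [mul_assoc, e2] at e1
      simp only [← mul_assoc] at e1
      exact mul_right_cancel e1
  have hcT' : c ∈ zed (T a'' a') := by
    rw [T_comm]
    refine ⟨D.Q_le_T (D.symm h.adj') (D.V_le_Q a' hca'), D.V_sq hca', fun g hg => ?_⟩
    by_cases hgQ : g ∈ D.Q a'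
    · exact D.V_comm hca' hgQ
    · have e1 := D.V_comm hca' (D.mul_mem_Q (D.symm h.adj') hg
        (by rw [T_comm]; exact h.V_le D hu₀) hgQ hu₀')
      have e2 : u₀ * c = c * u₀ := D.V_comm hca (D.V_le_Q a hu₀)
      rw [mul_assoc, e2] at e1
      simp only [← mul_assoc] at e1
      exact mul_right_cancel e1
  have conj : ∀ u ∈ D.V a, u ∉ D.Q a' → ∀ w ∈ D.V a', w ∉ D.Q a → w * u * w = c * u := by
    intro u hu hu' w hw hw'
    rw [← key u hu hu' w hw hw', mul_assoc _ u u, D.V_sq hu, mul_one]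
  refine ⟨c, fun hc1 => ?_, hca, hca', hcT, hcT', conj, fun v hv w hw hw' => ?_⟩
  · refine hw₀' (D.V_centralizer hw₀a fun u hu => ?_)
    by_cases hu' : u ∈ D.Q a'
    · exact (D.V_comm hw₀ hu').symm
    · have := conj u hu hu' w₀ hw₀ hw₀'
      rw [hc1, one_mul] at this
      conv_rhs => rw [← this, mul_assoc, D.V_sq hw₀, mul_one]
  · by_cases hv' : v ∈ D.Q a'
    · left
      rw [← D.V_comm hw hv', mul_assoc, D.V_sq hw, mul_one]
    · right
      have h1 : v * u₀ ∈ D.Q a' := D.mul_mem_Q (D.symm h.adj') (by rw [T_comm]; exact hv)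
        (by rw [T_comm]; exact h.V_le D hu₀) hv' hu₀'
      calc w * v * w = w * (v * u₀) * (u₀ * w) := by
            simp only [mul_assoc]; rw [← mul_assoc u₀ u₀, D.V_sq hu₀, one_mul]
        _ = (v * u₀) * (w * u₀ * w) := by rw [← D.V_comm hw h1]; group
        _ = (v * u₀) * c * u₀ := by rw [conj u₀ hu₀ hu₀' w hw hw']; group
        _ = c * (v * u₀) * u₀ := by rw [D.V_comm hca' h1]
        _ = c * v := by simp only [mul_assoc]; rw [D.V_sq hu₀, mul_one]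

/-- All the modules joined to a neighbour give one group. -/
def P (x : Ω) : Prop :=
  ∀ γ₁ γ₂, D.Adj x γ₁ → D.Adj x γ₂ → D.V (G := G) γ₂ ≤ D.V x ⊔ D.V γ₁

theorem conj_sup {g v : G} {x y : Ω} (hv : v ∈ D.V x ⊔ D.V y) :
    g * v * g⁻¹ ∈ D.V (g • x) ⊔ D.V (g • y) := by
  have h : D.V x ⊔ D.V y ≤ (D.V (g • x) ⊔ D.V (g • y)).comap (MulAut.conj g).toMonoidHom :=
    sup_le (fun w hw => Subgroup.mem_sup_left (D.conj_V hw))
      (fun w hw => Subgroup.mem_sup_right (D.conj_V hw))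
  exact h hv

theorem P_smul {x : Ω} (g : G) (h : D.P (G := G) x) : D.P (G := G) (g • x) := by
  intro γ₁ γ₂ h1 h2 v hv
  have h1' : D.Adj x (g⁻¹ • γ₁) := by simpa using D.equiv g⁻¹ h1
  have h2' : D.Adj x (g⁻¹ • γ₂) := by simpa using D.equiv g⁻¹ h2
  have := D.conj_sup (g := g) (h _ _ h1' h2' (D.conj_V (g := g⁻¹) hv))
  simp only [inv_inv, smul_inv_smul] at this
  rwa [show g * (g⁻¹ * v * g) * g⁻¹ = v by group] at this

theorem P_flip {x y u v : Ω} (hx : D.P (G := G) x) (hxy : D.Adj x y) (huv : D.Adj u v)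
    (hv : ¬ D.P (G := G) v) : D.P (G := G) u := by
  obtain ⟨g, hg | hg⟩ := D.edge hxy huv
  · exact hg.1 ▸ D.P_smul g hx
  · exact absurd (hg.1 ▸ D.P_smul g hx) hv

theorem Crit.no_P (h : D.Crit b a a₁ a'' a') (hb : 2 ≤ b) : ¬ D.P (G := G) a₁ := by
  intro hP
  obtain ⟨n, hn⟩ : ∃ n, b - 1 = n + 1 := ⟨b - 2, by omega⟩
  have hw := h.w₁
  rw [hn] at hw
  obtain ⟨a₂, h1, h2⟩ := hw
  refine h.ncrit ((hP a₂ a h1 (D.symm h.adj)).trans (sup_le ?_ ?_))
  · exact h.below (b - 1) (by omega) a₁ a' h.w₁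
  · exact h.below n (by omega) a₂ a' h2

theorem P_kernel {x γ₁ γ₂ : Ω} (hP : D.P (G := G) x) (h1 : D.Adj x γ₁) (h2 : D.Adj x γ₂) {q : G}
    (hq : q ∈ D.Q x) (hq1 : q ∈ D.Q γ₁) : q ∈ D.Q γ₂ := by
  refine D.V_centralizer (hq.2 _ h2) fun v hv => ?_
  have h : D.V x ⊔ D.V γ₁ ≤ Subgroup.centralizer {q} :=
    sup_le (fun w hw => Subgroup.mem_centralizer_singleton_iff.mpr (D.V_comm hw hq).symm)
      (fun w hw => Subgroup.mem_centralizer_singleton_iff.mpr (D.V_comm hw hq1).symm)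
  exact (Subgroup.mem_centralizer_singleton_iff.mp (h (hP γ₁ γ₂ h1 h2 hv))).symm

theorem Crit.shift (h : D.Crit b a a₁ a'' a') (hb : 2 ≤ b) {γ : Ω} (hγ : D.Adj a γ)
    (hne : γ ≠ a₁) (hP : ¬ D.P (G := G) a) : ¬ D.V (G := G) γ ≤ D.Q a'' := by
  intro hle
  obtain ⟨c, -, hcV, -, -, -, -, hc⟩ := h.exists_com D
  obtain ⟨w, hw, hwQ⟩ := (h.rev D).exists_out D
  have hwT := h.V_le' D hw
  have hmem : ∀ x ∈ D.V a ⊔ D.V γ, w * x * w⁻¹ ∈ D.V a ⊔ D.V γ := by
    intro x hx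
    have hle' : D.V a ⊔ D.V γ ≤ (D.V a ⊔ D.V γ).comap (MulAut.conj w).toMonoidHom := by
      refine sup_le (fun v hv => Subgroup.mem_sup_left (D.conj_V' hwT.1 hv)) fun v hv => ?_
      show w * v * w⁻¹ ∈ D.V (G := G) a ⊔ D.V γ
      rw [D.V_inv hw]
      rcases hc v (D.Q_le_T h.adj' (hle hv)) w hw hwQ with e | e <;> rw [e]
      · exact Subgroup.mem_sup_right hv
      · exact mul_mem (Subgroup.mem_sup_left hcV) (Subgroup.mem_sup_right hv)
    exact hle' hx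
  let H : Subgroup G :=
    { carrier := {g | ∀ x, x ∈ D.V a ⊔ D.V γ ↔ g * x * g⁻¹ ∈ D.V a ⊔ D.V γ}
      one_mem' := fun x => by simp
      mul_mem' := fun {p q} hp hq x => by
        rw [hq x, hp (q * x * q⁻¹)]; simp only [mul_inv_rev, mul_assoc]
      inv_mem' := fun {p} hp x => by
        rw [hp (p⁻¹ * x * p⁻¹⁻¹)]; simp [mul_assoc] }
  have hT : T a γ ≤ H := by
    have hone : ∀ g ∈ T a γ, ∀ x ∈ D.V a ⊔ D.V γ, g * x * g⁻¹ ∈ D.V a ⊔ D.V γ := fun g hg x hx => by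
      have := D.conj_sup (g := g) hx
      rwa [hg.1, hg.2] at this
    intro g hg x
    refine ⟨hone g hg x, fun hx => ?_⟩
    simpa [mul_assoc] using hone g⁻¹ (inv_mem hg) _ hx
  have hwH : w ∈ H := fun x => by
    refine ⟨hmem x, fun hx => ?_⟩
    have := hmem _ hx
    rwa [D.V_inv hw, show w * (w * x * w) * w = (w * w) * x * (w * w) by group, D.V_sq hw,
      one_mul, mul_one] at this
  have hS := D.stab_le hγ hT hwH hwT.1 (D.moves h.adj hwT hwQ hγ hne)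
  apply hP
  intro γ₁ γ₂ h1 h2 v hv
  obtain ⟨g₁, g1x, g1γ⟩ := D.trans hγ h1
  obtain ⟨g₂, g2x, g2γ⟩ := D.trans hγ h2
  have hin : v ∈ D.V a ⊔ D.V γ := by
    have hgv := D.conj_V (g := g₂⁻¹) hv
    rw [← g2γ, inv_smul_smul, inv_inv] at hgv
    have := ((hS g2x) (g₂⁻¹ * v * g₂)).mp (Subgroup.mem_sup_right hgv)
    rwa [show g₂ * (g₂⁻¹ * v * g₂) * g₂⁻¹ = v by group] at this
  have := D.conj_sup (g := g₁) (((hS g1x) (g₁⁻¹ * v * g₁)).mpr
    (by rwa [show g₁ * (g₁⁻¹ * v * g₁) * g₁⁻¹ = v by group]))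
  rwa [g1x, g1γ, show g₁ * (g₁⁻¹ * v * g₁) * g₁⁻¹ = v by group] at this

end Am

end CfsgLib.S3Amalgam
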