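import Cfsg.Agent.Lib.S3Amalgam.Critical

/-!
The critical distance is one.
-/

set_option autoImplicit false
set_option linter.unusedSectionVars false

namespace CfsgLib.S3Amalgam

open MulAction

variable {G : Type*} [Group G] {Ω : Type*} [MulAction G Ω] (D : Am G Ω)

namespace Am

variable {b : ℕ} {a a₁ a'' a' : Ω}

/-- An element outside the kernel and an element of an edge group. -/
theorem exists_pair_map {γ ε η ε' η' : Ω} (h1 : D.Adj γ ε) (h2 : D.Adj γ η) (hne : ε ≠ η)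
    (h3 : D.Adj γ ε') (h4 : D.Adj γ η') (hne' : ε' ≠ η') :
    ∃ g : G, g • γ = γ ∧ g • ε = ε' ∧ g • η = η' := by
  obtain ⟨g, hg, hge⟩ := D.trans h1 h3
  have hgη : g • η ≠ ε' := fun e => hne.symm ((MulAction.injective g) (e.trans hge.symm))
  by_cases he : g • η = η'
  · exact ⟨g, hg, hge, he⟩
  have h5 := D.adj_smul_of_fix hg h2
  obtain ⟨w, hw, hwε, hwη, hall⟩ := D.third h3 h5 hgη
  obtain ⟨k, hk, hke, hkη⟩ := D.swap h3 h5 hgη
  have hwη' : η' = w := by
    rcases hall _ h4 with e | e | e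
    · exact absurd e hne'.symm
    · exact absurd e.symm he
    · exact e
  refine ⟨k * g, by rw [mul_smul, hg, hk], by rw [mul_smul, hge, hke], ?_⟩
  rw [mul_smul]
  rcases hall _ (D.adj_smul_of_fix hk h5) with e | e | e
  · exact absurd ((MulAction.injective k) (e.trans hke.symm)) hgη
  · exact absurd e hkη
  · exact e.trans hwη'.symm

theorem pair_transport (g : G) {x y : Ω} (h : ¬ D.V (G := G) x ≤ D.Q y) :
    ¬ D.V (G := G) (g • x) ≤ D.Q (g • y) := by
  intro hle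
  refine h fun v hv => ?_
  have := D.conj_Q (g := g⁻¹) (hle (D.conj_V (g := g) hv))
  simpa [mul_assoc] using this

theorem case_two_P (h : D.Crit 2 a a₁ a'' a') (hP : D.P (G := G) a) : False := by
  have hB : D.Adj a₁ a' := by
    obtain ⟨z, hz, hz'⟩ := h.w₁
    exact (show z = a' from hz') ▸ hz
  have hB' : D.Crit 2 a a₁ a₁ a' :=
    ⟨h.hb, h.below, h.adj, hB, h.w₁, D.walk_one h.adj, h.ncrit⟩
  have hne : a ≠ a' := fun e => h.ncrit (e ▸ D.V_le_Q a)
  obtain ⟨R, -, hRa, -, -, -, -, hR⟩ := hB'.exists_com D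
  obtain ⟨t, ht, htQ⟩ := (hB'.rev D).exists_out D
  have htT := hB'.V_le' D ht
  obtain ⟨γ, -, hγ, -, hγ1, -, -⟩ := D.two_others h.adj
  obtain ⟨ε, η, hε, hη, hεa, hηa, hεη⟩ := D.two_others (D.symm hγ)
  obtain ⟨g, hga, hgb⟩ := D.trans h.adj hγ
  have hgd : D.Adj γ (g • a') := by
    have := D.equiv g hB
    rwa [hgb] at this
  have hgne : a ≠ g • a' := fun e => hne ((MulAction.injective g) (hga.trans e))
  have hpair : ∀ x y, D.Adj γ x → D.Adj γ y → x ≠ y → ¬ D.V (G := G) x ≤ D.Q y := by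
    intro x y hx hy hxy
    obtain ⟨k, -, k1, k2⟩ := exists_pair_map D (D.symm hγ) hgd hgne hx hy hxy
    have := D.pair_transport k (D.pair_transport g h.ncrit)
    rwa [hga, k1, k2] at this
  have hεc : D.Crit 2 ε γ γ η :=
    ⟨le_rfl.trans (by norm_num), h.below, D.symm hε, hη, D.walk_one hη, D.walk_one (D.symm hε),
      hpair ε η hε hη hεη⟩
  obtain ⟨c, hc1, hcε, -, hcz, hcz', hconj, -⟩ := hεc.exists_com D
  obtain ⟨s₁, hs₁, hs₁a, hs₁η⟩ :=
    exists_outside (hpair ε a hε (D.symm hγ) hεa) (hpair ε η hε hη hεη)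
  obtain ⟨s₂, hs₂, hs₂a, hs₂ε⟩ :=
    exists_outside (hpair η a hη (D.symm hγ) hηa) (hpair η ε hη hε hεη.symm)
  have hs1γ : s₁ ∈ D.Q γ := h.below 1 (by norm_num) ε γ (D.walk_one (D.symm hε)) hs₁
  have hs2γ : s₂ ∈ D.Q γ := h.below 1 (by norm_num) η γ (D.walk_one (D.symm hη)) hs₂
  have hyγ : s₁ * s₂ ∈ D.Q γ := mul_mem hs1γ hs2γ
  have hya : s₁ * s₂ ∈ D.Q a := D.mul_mem_Q hγ
    (by rw [T_comm]; exact D.Q_le_T (D.symm hγ) hs1γ)
    (by rw [T_comm]; exact D.Q_le_T (D.symm hγ) hs2γ) hs₁a hs₂a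
  have hy1 : s₁ * s₂ ∈ D.Q a₁ := D.P_kernel hP hγ h.adj hya hyγ
  have hyy : (s₁ * s₂) * (s₁ * s₂) = c := by
    calc (s₁ * s₂) * (s₁ * s₂) = s₁ * (s₂ * s₁ * s₂) := by group
      _ = s₁ * (c * s₁) := by rw [hconj s₁ hs₁ hs₁η s₂ hs₂ hs₂ε]
      _ = (s₁ * s₁) * c := by
          rw [D.V_comm hs₁ (D.V_le_Q ε hcε), mul_assoc]
      _ = c := by rw [D.V_sq hs₁, one_mul]
  have htc : t * c = c * t := by
    have hsq : (t * (s₁ * s₂) * t) * (t * (s₁ * s₂) * t) = c := by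
      rcases hR _ (D.Q_le_T hB hy1) t ht htQ with e | e
      · rw [e, hyy]
      · rw [e]
        calc R * (s₁ * s₂) * (R * (s₁ * s₂)) = R * ((s₁ * s₂) * R) * (s₁ * s₂) := by group
          _ = R * (R * (s₁ * s₂)) * (s₁ * s₂) := by rw [D.V_comm hRa hya]
          _ = (R * R) * ((s₁ * s₂) * (s₁ * s₂)) := by group
          _ = c := by rw [D.V_sq hRa, one_mul, hyy]
    rw [show (t * (s₁ * s₂) * t) * (t * (s₁ * s₂) * t)
      = t * ((s₁ * s₂) * (t * t) * (s₁ * s₂)) * t by group, D.V_sq ht, mul_one, hyy] at hsq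
    calc t * c = t * c * (t * t) := by rw [D.V_sq ht, mul_one]
      _ = (t * c * t) * t := by group
      _ = c * t := by rw [hsq]
  rw [T_comm] at hcz
  obtain ⟨k, hk, hkQ⟩ := D.exists_not_mem_Q hη
  have hcγ := D.central_of_moves hε hcz hk.1 (D.moves hη hk hkQ hε hεη)
    (hcz'.2.2 k hk)
  have hca := D.zed_transfer hε (D.symm hγ) hcz hcγ
  rw [T_comm] at hca
  have hcA := D.central_of_moves hγ hca htT.1 (D.moves h.adj htT htQ hγ hγ1) htc
  exact hc1 (D.eq_one_of_central hγ hca.1 hcA hcγ)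

theorem case_two_notP (h : D.Crit 2 a a₁ a'' a') (hP : ¬ D.P (G := G) a) : False := by
  have hB : D.Adj a₁ a' := by
    obtain ⟨z, hz, hz'⟩ := h.w₁
    exact (show z = a' from hz') ▸ hz
  have hB' : D.Crit 2 a a₁ a₁ a' :=
    ⟨h.hb, h.below, h.adj, hB, h.w₁, D.walk_one h.adj, h.ncrit⟩
  have hne : a ≠ a' := fun e => h.ncrit (e ▸ D.V_le_Q a)
  obtain ⟨R, -, -, -, hRz, hRz', -, hR⟩ := hB'.exists_com D
  obtain ⟨t, ht, htQ⟩ := (hB'.rev D).exists_out D
  have htT := hB'.V_le' D ht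
  obtain ⟨γ, -, hγ, -, hγ1, -, -⟩ := D.two_others h.adj
  set γ' := t • γ with hγ'
  have hγ'a : D.Adj a γ' := D.adj_smul_of_fix htT.1 hγ
  have hmove : γ' ≠ γ := D.moves h.adj htT htQ hγ hγ1
  have hcβ := hB'.shift D le_rfl hγ hγ1 hP
  obtain ⟨k, hka, hk1, hk2⟩ := exists_pair_map D hγ h.adj hγ1 hγ hγ'a hmove.symm
  have hcγ : ¬ D.V (G := G) γ ≤ D.Q γ' := by
    have := D.pair_transport k hcβ
    rwa [hk1, hk2] at this
  have hC : D.Crit 2 γ a a γ' :=
    ⟨h.hb, h.below, D.symm hγ, hγ'a, D.walk_one hγ'a, D.walk_one (D.symm hγ), hcγ⟩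
  obtain ⟨c, hc1, -, -, hcz, hcz', hconj, -⟩ := hC.exists_com D
  obtain ⟨s, hs, hsβ, hsγ'⟩ := exists_outside hcβ hcγ
  have htinv : t⁻¹ = t := D.V_inv ht
  have hs' : t * s * t ∈ D.V γ' := by
    have := D.conj_V (g := t) hs
    rwa [htinv] at this
  have hts : ∀ x : G, t * (t * x * t) * t = x := fun x => by
    rw [show t * (t * x * t) * t = (t * t) * x * (t * t) by group, D.V_sq ht, one_mul, mul_one]
  have hs'γ : t * s * t ∉ D.Q γ := fun e => by
    have := D.conj_Q (g := t) e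
    rw [htinv, hts] at this
    exact hsγ' this
  have htβ : t ∈ D.Q a₁ := h.below 1 (by norm_num) a' a₁ (D.walk_one (D.symm hB)) ht
  have hsa : s ∈ D.Q a := h.below 1 (by norm_num) γ a (D.walk_one (D.symm hγ)) hs
  have hs'a : t * s * t ∈ D.Q a := h.below 1 (by norm_num) γ' a (D.walk_one (D.symm hγ'a)) hs'
  have hs'β : t * s * t ∉ D.Q a₁ := fun e => by
    have := mul_mem (mul_mem htβ e) htβ
    rw [hts] at this
    exact hsβ this
  have hyβ : s * (t * s * t) ∈ D.Q a₁ := D.mul_mem_Q (D.symm h.adj)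
    (by rw [T_comm]; exact D.Q_le_T h.adj hsa) (by rw [T_comm]; exact D.Q_le_T h.adj hs'a)
    hsβ hs'β
  have e1 : (t * s * t) * s = c * (s * (t * s * t)) := by
    calc (t * s * t) * s = (t * s * t) * s * (t * s * t) * (t * s * t) := by
          rw [mul_assoc _ _ (t * s * t), D.V_sq hs', mul_one]
      _ = c * s * (t * s * t) := by rw [hconj s hs hsγ' _ hs' hs'γ]
      _ = c * (s * (t * s * t)) := by group
  have e2 : t * (s * (t * s * t)) * t = (t * s * t) * s := by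
    rw [show t * (s * (t * s * t)) * t = (t * s * t) * s * (t * t) by group, D.V_sq ht, mul_one]
  rw [T_comm] at hcz
  obtain ⟨q, hq, hqQ⟩ := D.exists_not_mem_Q hγ'a
  have hcA := D.central_of_moves hγ hcz hq.1 (D.moves hγ'a hq hqQ hγ hmove.symm)
    (hcz'.2.2 q hq)
  rcases hR _ (D.Q_le_T hB hyβ) t ht htQ with e | e <;> rw [e2, e1] at e
  · exact hc1 (mul_eq_right.mp e)
  · have hcR : c = R := mul_right_cancel e
    obtain ⟨u, hu, huQ⟩ := D.exists_not_mem_Q hB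
    rw [T_comm] at hRz
    have hRβ := D.central_of_moves (D.symm h.adj) hRz hu.1
      (D.moves hB hu huQ (D.symm h.adj) hne) (hRz'.2.2 u hu)
    rw [T_comm] at hRz
    exact hc1 (D.eq_one_of_central h.adj (hcR ▸ hRz.1) hcA (hcR ▸ hRβ))

theorem case_large_notP (h : D.Crit b a a₁ a'' a') (hb : 3 ≤ b) (hP : ¬ D.P (G := G) a) :
    False := by
  obtain ⟨n, rfl⟩ : ∃ n, b = n + 3 := ⟨b - 3, by omega⟩
  obtain ⟨γ, -, hγ, -, hγ1, -, -⟩ := D.two_others h.adj
  obtain ⟨a₃, hw3, h3⟩ := D.walk_last (n := n + 1) h.w₂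
  have hcγ := h.shift D (by omega) hγ hγ1 hP
  have hC : D.Crit (n + 3) γ a a₃ a'' :=
    ⟨h.hb, h.below, D.symm hγ, h3, h.w₂, D.walk_cons (D.symm hγ) hw3, hcγ⟩
  obtain ⟨g, hg, hgγ⟩ := D.trans h.adj hγ
  have hPγ : ¬ D.P (G := G) γ := fun e => h.no_P D (by omega) (by
    have := D.P_smul g⁻¹ e
    rwa [← hgγ, inv_smul_smul] at this)
  obtain ⟨ε, -, hε, -, hεa, -, -⟩ := D.two_others (D.symm hγ)
  have hcε := hC.shift D (by omega) hε hεa hPγ
  obtain ⟨a₄, hw4, h4⟩ := D.walk_last (n := n + 1) hC.w₂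
  have hE : D.Crit (n + 3) ε γ a₄ a₃ :=
    ⟨h.hb, h.below, D.symm hε, h4, D.walk_cons (D.symm hγ) hw3, D.walk_cons (D.symm hε) hw4,
      hcε⟩
  obtain ⟨c, hc1, -, hcV, hcz, -, -, -⟩ := hE.exists_com D
  obtain ⟨t, ht, htQ⟩ := (h.rev D).exists_out D
  obtain ⟨t', ht', htQ'⟩ := (hC.rev D).exists_out D
  have hc' : t' * c = c * t' := (D.V_comm ht'
    (h.below 1 (by omega) a₃ a'' (D.walk_one h3) hcV)).symm
  have hc2 : t * c = c * t := (D.V_comm ht
    (h.below 2 (by omega) a₃ a' (D.walk_cons h3 (D.walk_one h.adj')) hcV)).symm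
  rw [T_comm] at hcz
  have hT' := hC.V_le' D ht'
  have hcγ' := D.central_of_moves hε hcz hT'.1 (D.moves (D.symm hγ) hT' htQ' hε hεa) hc'
  have hca := D.zed_transfer hε (D.symm hγ) hcz hcγ'
  rw [T_comm] at hca
  have hT := h.V_le' D ht
  exact hc1 (D.eq_one_of_central hγ hca.1
    (D.central_of_moves hγ hca hT.1 (D.moves h.adj hT htQ hγ hγ1) hc2) hcγ')

theorem case_large_P (h : D.Crit b a a₁ a'' a') (hb : 3 ≤ b) (hP : D.P (G := G) a) :
    False := by
  obtain ⟨n, rfl⟩ : ∃ n, b = n + 3 := ⟨b - 3, by omega⟩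
  obtain ⟨γ, -, hγ, -, hγ1, -, -⟩ := D.two_others h.adj
  obtain ⟨a₃, hw3, h3⟩ := D.walk_last (n := n + 1) h.w₂
  obtain ⟨a₄, hw4, h4⟩ := D.walk_last (n := n) hw3
  have hPa'' : ¬ D.P (G := G) a'' := (h.rev D).no_P D (by omega)
  have hP3 : D.P (G := G) a₃ := D.P_flip hP h.adj h3 hPa''
  obtain ⟨t, ht, htQ⟩ := (h.rev D).exists_out D
  have hT := h.V_le' D ht
  obtain ⟨c₀, -, hc₀a, -, -, -, -, hc₀⟩ := h.exists_com D
  obtain ⟨ε, η, hε, hη, hεa, hηa, hεη⟩ := D.two_others (D.symm hγ)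
  have hw : ∀ x, D.Adj γ x → D.Walk (n + 2) x a₄ := fun x hx =>
    D.walk_cons (D.symm hx) (D.walk_cons (D.symm hγ) hw4)
  have hex : ∃ x, D.Adj γ x ∧ x ≠ a ∧ D.V (G := G) x ≤ D.Q a₃ := by
    by_contra hno
    simp only [not_exists, not_and] at hno
    have hA : ∀ x, D.Adj γ x → x ≠ a → D.Crit (n + 3) x γ a₄ a₃ := fun x hx hxa =>
      ⟨h.hb, h.below, D.symm hx, h4, D.walk_cons (D.symm hγ) hw3, hw x hx, hno x hx hxa⟩
    have hX := hA ε hε hεa
    have hY := hA η hη hηa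
    obtain ⟨c, hc1, -, hcV, hcz, -, hcX, -⟩ := hX.exists_com D
    obtain ⟨d, -, -, hdV, hdz, hdz', hcY, -⟩ := hY.exists_com D
    obtain ⟨u₁, hu₁, hu₁'⟩ := hX.exists_out D
    obtain ⟨u₂, hu₂, hu₂'⟩ := hY.exists_out D
    obtain ⟨w, hw, hwε, hwη⟩ := exists_outside (hX.rev D).ncrit (hY.rev D).ncrit
    have hq : u₁ * u₂ ∈ D.Q a₃ := D.mul_mem_Q (D.symm h4)
      (by rw [T_comm]; exact hX.V_le D hu₁) (by rw [T_comm]; exact hY.V_le D hu₂) hu₁' hu₂'
    have f1 := hcX u₁ hu₁ hu₁' w hw hwε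
    have f2 := hcY u₂ hu₂ hu₂' w hw hwη
    have f3 : w * (u₁ * u₂) * w = u₁ * u₂ := by
      rw [← D.V_comm hw hq, mul_assoc, D.V_sq hw, mul_one]
    have hdu : u₁ * d = d * u₁ := hdz'.2.2 u₁ (hX.V_le D hu₁)
    have hcd : c = d := by
      rw [show w * (u₁ * u₂) * w = (w * u₁ * w) * (w * u₂ * w) by
        rw [show (w * u₁ * w) * (w * u₂ * w) = w * u₁ * (w * w) * (u₂ * w) by group,
          D.V_sq hw, mul_one]; group, f1, f2] at f3
      have e : c * (d * (u₁ * u₂)) = u₁ * u₂ := by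
        calc c * (d * (u₁ * u₂)) = c * (d * u₁) * u₂ := by group
          _ = c * (u₁ * d) * u₂ := by rw [hdu]
          _ = c * u₁ * (d * u₂) := by group
          _ = u₁ * u₂ := f3
      have e' : c * d = 1 := mul_eq_right.mp ((mul_assoc _ _ _).trans e)
      rw [eq_inv_of_mul_eq_one_left e', D.V_inv hdV]
    subst hcd
    rw [T_comm] at hcz hdz
    obtain ⟨k, hk, hkQ⟩ := D.exists_not_mem_Q hη
    have hcγ := D.central_of_moves hε hcz hk.1 (D.moves hη hk hkQ hε hεη) (hdz.2.2 k hk)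
    have hca := D.zed_transfer hε (D.symm hγ) hcz hcγ
    rw [T_comm] at hca
    have hc2 : t * c = c * t := (D.V_comm ht
      (h.below 2 (by omega) a₃ a' (D.walk_cons h3 (D.walk_one h.adj')) hcV)).symm
    exact hc1 (D.eq_one_of_central hγ hca.1
      (D.central_of_moves hγ hca hT.1 (D.moves h.adj hT htQ hγ hγ1) hc2) hcγ)
  obtain ⟨x, hx, hxa, hle⟩ := hex
  set γ' := t • γ with hγ'
  have hγ'a : D.Adj a γ' := D.adj_smul_of_fix hT.1 hγ
  let W : Ω → Subgroup G := fun z => ⨆ (y : Ω) (_ : D.Adj z y), D.V y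
  have leW : ∀ {z y}, D.Adj z y → D.V (G := G) y ≤ W z := fun {z y} hy =>
    le_iSup₂ (f := fun y (_ : D.Adj z y) => D.V (G := G) y) y hy
  have conjW : ∀ (g : G) (z : Ω), ∀ v ∈ W z, g * v * g⁻¹ ∈ W (g • z) := by
    intro g z v hv
    have hh : W z ≤ (W (g • z)).comap (MulAut.conj g).toMonoidHom :=
      iSup₂_le fun y hy w hw => leW (D.equiv g hy) (D.conj_V hw)
    exact hh hv
  have htt : t • γ' = γ := by
    rw [hγ', ← mul_smul, D.V_sq ht, one_smul]
  have hxW : D.V x ≤ W γ' := by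
    intro v hv
    have hv3 : v ∈ D.Q a'' := D.P_kernel hP3 (D.symm h4) h3 (hle hv)
      (h.below (n + 2) (by omega) x a₄ (hw x hx) hv)
    have hx' : t * v * t ∈ W γ' := by
      have := leW (D.equiv t hx) (D.conj_V (g := t) hv)
      rwa [D.V_inv ht] at this
    rcases hc₀ v (D.Q_le_T h.adj' hv3) t ht htQ with e | e
    · rwa [e] at hx'
    · rw [e] at hx'
      exact (Subgroup.mul_mem_cancel_left _ (leW (D.symm hγ'a) hc₀a)).mp hx'
  obtain ⟨q, hq, hqγ⟩ := SetLike.not_le_iff_exists.mp (D.Q_not_le hγ)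
  have hqT : q ∈ T γ a := by rw [T_comm]; exact D.Q_le_T hγ hq
  have hWle : W γ ≤ W γ' := iSup₂_le fun y hy => by
    obtain ⟨z, hz, hza, hzx, hall⟩ := D.third (D.symm hγ) hx hxa
    rcases hall y hy with rfl | rfl | rfl
    · exact leW (D.symm hγ'a)
    · exact hxW
    · intro v hv
      have hqx : q • x = y := by
        rcases hall _ (D.adj_smul_of_fix hqT.1 hx) with e | e | e
        · exact absurd ((MulAction.injective q) (e.trans hqT.2.symm)) hxa
        · exact absurd e (D.moves (D.symm hγ) hqT hqγ hx hxa)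
        · exact e
      have h1 : q⁻¹ * v * q⁻¹⁻¹ ∈ D.V x := by
        have := D.conj_V (g := q⁻¹) hv
        rwa [← hqx, inv_smul_smul] at this
      have := conjW q γ' _ (hxW h1)
      rw [hq.2 _ hγ'a] at this
      simpa [mul_assoc] using this
  have hWle' : W γ' ≤ W γ := by
    intro v hv
    have h1 := conjW t γ' v hv
    rw [htt] at h1
    have := conjW t γ' _ (hWle h1)
    rw [htt, D.V_inv ht, show t * (t * v * t) * t = (t * t) * v * (t * t) by group, D.V_sq ht,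
      one_mul, mul_one] at this
    exact this
  have hWeq : W γ = W γ' := le_antisymm hWle hWle'
  let H : Subgroup G := Subgroup.normalizer (W γ : Set G)
  have hTH : ∀ g : G, g • γ = γ → g ∈ H := fun g hg => Subgroup.mem_normalizer_iff.mpr fun v =>
    ⟨fun hv => by simpa [hg] using conjW g γ v hv, fun hv => by
      have := conjW g⁻¹ γ _ hv
      rw [inv_smul_eq_iff.mpr hg.symm] at this
      simpa [mul_assoc] using this⟩
  have htH : t ∈ H := Subgroup.mem_normalizer_iff.mpr fun v => by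
    constructor
    · intro hv
      rw [hWeq]; exact conjW t γ v hv
    · intro hv
      have := conjW t γ _ hv
      rw [← hγ', ← hWeq, D.V_inv ht, show t * (t * v * t) * t = (t * t) * v * (t * t) by group,
        D.V_sq ht, one_mul, mul_one] at this
      exact this
  have hH := D.stab_le hγ (H := H) (fun g hg => hTH g hg.2) htH hT.1
    (D.moves h.adj hT htQ hγ hγ1)
  have hbot : W γ = ⊥ := D.eq_bot_of_normalized hγ
    (iSup₂_le fun y hy => (h.below 1 (by omega) y γ (D.walk_one (D.symm hy))).trans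
      (by rw [T_comm]; exact D.Q_le_T (D.symm hγ)))
    (fun g hg v hv => (Subgroup.mem_normalizer_iff.mp (hH hg) v).mp hv)
    (fun g hg v hv => (Subgroup.mem_normalizer_iff.mp (hTH g hg) v).mp hv)
  exact D.V_ne_bot h.adj (le_bot_iff.mp (hbot ▸ leW (D.symm hγ)))

theorem dist_one {x y : Ω} (h : D.Adj x y) : ¬ D.V (G := G) x ≤ D.Q y := by
  obtain ⟨b, hb, hB, a, a', hw, hne⟩ := D.exists_critical h
  obtain ⟨a₁, a'', hC⟩ := D.exists_crit hb hB hw hne
  have hb1 : b = 1 := by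
    by_contra hb1
    by_cases hP : D.P (G := G) a
    · rcases eq_or_lt_of_le (show 2 ≤ b by omega) with rfl | hlt
      · exact D.case_two_P hC hP
      · exact D.case_large_P hC hlt hP
    · rcases eq_or_lt_of_le (show 2 ≤ b by omega) with rfl | hlt
      · exact D.case_two_notP hC hP
      · exact D.case_large_notP hC hlt hP
  subst hb1
  have ha : D.Adj a a' := by
    obtain ⟨z, hz, hz'⟩ := hw
    exact (show z = a' from hz') ▸ hz
  intro hle
  obtain ⟨g, hg | hg⟩ := D.edge h ha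
  · exact (D.pair_transport g⁻¹ hne) (by rwa [← hg.1, ← hg.2, inv_smul_smul, inv_smul_smul])
  · have := (hC.rev D).ncrit
    exact (D.pair_transport g⁻¹ this) (by rwa [← hg.1, ← hg.2, inv_smul_smul, inv_smul_smul])

end Am

end CfsgLib.S3Amalgam
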