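import Mathlib

/-!
A group acting edge-transitively on a graph of valency three with local action the symmetric
group of degree three: stabilisers, kernels, and the central modules of the vertices.
-/

set_option autoImplicit false
set_option linter.unusedSectionVars false

namespace CfsgLib.S3Amalgam

open MulAction

/-- The data of an amalgam of two groups with symmetric residues of degree three. -/
structure Am (G : Type*) (Ω : Type*) [Group G] [MulAction G Ω] where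
  Adj : Ω → Ω → Prop
  symm : ∀ {x y}, Adj x y → Adj y x
  equiv : ∀ (g : G) {x y}, Adj x y → Adj (g • x) (g • y)
  fin : ∀ x : Ω, Finite ↥(stabilizer G x)
  nbr : ∀ x, ∃ a b c, a ≠ b ∧ a ≠ c ∧ b ≠ c ∧ ∀ y, Adj x y ↔ y = a ∨ y = b ∨ y = c
  trans : ∀ {x y z}, Adj x y → Adj x z → ∃ g : G, g • x = x ∧ g • y = z
  swap : ∀ {x y z}, Adj x y → Adj x z → z ≠ y → ∃ g : G, g • x = x ∧ g • y = y ∧ g • z ≠ z
  edge : ∀ {x y u v}, Adj x y → Adj u v →
    ∃ g : G, (g • x = u ∧ g • y = v) ∨ (g • x = v ∧ g • y = u)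
  gen : ∀ {x y}, Adj x y → stabilizer G x ⊔ stabilizer G y = ⊤
  faith : ∀ g : G, (∀ x : Ω, g • x = x) → g = 1
  cent : ∀ (x : Ω) (g : G), g • x = x →
    (∀ q : G, q • x = x → (∀ y, Adj x y → q • y = y) → g * q = q * g) → ∀ y, Adj x y → g • y = y
  nc : ∀ {x y}, Adj x y → ∃ z : G, z • x = x ∧ z • y = y ∧ z * z = 1 ∧
    (∀ h : G, h • x = x → h • y = y → h * z = z * h) ∧ ∃ g : G, g • x = x ∧ g * z ≠ z * g

variable {G : Type*} [Group G]

/-- The elements of order at most two in the centre. -/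
def zed (H : Subgroup G) : Subgroup G where
  carrier := {g | g ∈ H ∧ g * g = 1 ∧ ∀ h ∈ H, h * g = g * h}
  one_mem' := ⟨one_mem _, one_mul 1, fun h _ => by rw [mul_one, one_mul]⟩
  mul_mem' := by
    rintro a b ⟨ha, ha2, hac⟩ ⟨hb, hb2, hbc⟩
    refine ⟨mul_mem ha hb, ?_, fun h hh => ?_⟩
    · calc a * b * (a * b) = a * (b * a) * b := by group
        _ = a * (a * b) * b := by rw [hac b hb]
        _ = (a * a) * (b * b) := by group
        _ = 1 := by rw [ha2, hb2, one_mul]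
    · calc h * (a * b) = (h * a) * b := by group
        _ = a * (h * b) := by rw [hac h hh, mul_assoc]
        _ = a * b * h := by rw [hbc h hh, mul_assoc]
  inv_mem' := by
    rintro a ⟨ha, ha2, hac⟩
    have e : a⁻¹ = a := (eq_inv_of_mul_eq_one_left ha2).symm
    rw [e]; exact ⟨ha, ha2, hac⟩

theorem mem_zed {H : Subgroup G} {g : G} :
    g ∈ zed H ↔ g ∈ H ∧ g * g = 1 ∧ ∀ h ∈ H, h * g = g * h := Iff.rfl

/-- A subgroup is not the union of two proper subgroups. -/
theorem exists_outside {A B C : Subgroup G} (hB : ¬ A ≤ B) (hC : ¬ A ≤ C) :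
    ∃ a ∈ A, a ∉ B ∧ a ∉ C := by
  obtain ⟨b, hb, hb'⟩ := SetLike.not_le_iff_exists.mp hB
  obtain ⟨c, hc, hc'⟩ := SetLike.not_le_iff_exists.mp hC
  by_cases h1 : b ∈ C
  · by_cases h2 : c ∈ B
    · exact ⟨b * c, mul_mem hb hc, fun h => hb' ((Subgroup.mul_mem_cancel_right B h2).mp h),
        fun h => hc' ((Subgroup.mul_mem_cancel_left C h1).mp h)⟩
    · exact ⟨c, hc, h2, hc'⟩
  · exact ⟨b, hb, hb', h1⟩

theorem inv_eq_self {g : G} (h : g * g = 1) : g⁻¹ = g := (eq_inv_of_mul_eq_one_left h).symm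

variable {Ω : Type*} [MulAction G Ω] (D : Am G Ω)

/-- The edge group. -/
def T (x y : Ω) : Subgroup G := stabilizer G x ⊓ stabilizer G y

theorem mem_T {x y : Ω} {g : G} : g ∈ T x y ↔ g • x = x ∧ g • y = y := Iff.rfl

theorem T_comm (x y : Ω) : T (G := G) x y = T y x := inf_comm _ _

theorem smul_conj (g h : G) (x : Ω) : (g * h * g⁻¹) • g • x = g • h • x := by
  rw [← mul_smul, ← mul_smul, inv_mul_cancel_right]

theorem conj_fix {g h : G} {x : Ω} (hh : h • x = x) : (g * h * g⁻¹) • g • x = g • x := by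
  rw [smul_conj, hh]

theorem conj_fix' {g h : G} {x : Ω} (hg : g • x = x) (hh : h • x = x) :
    (g * h * g⁻¹) • x = x := by
  have := conj_fix (g := g) hh
  rwa [hg] at this

theorem conj_T {g h : G} {x y : Ω} (hh : h ∈ T x y) : g * h * g⁻¹ ∈ T (g • x) (g • y) :=
  ⟨conj_fix hh.1, conj_fix hh.2⟩

theorem conj_zed {g z : G} {x y : Ω} (hz : z ∈ zed (T x y)) :
    g * z * g⁻¹ ∈ zed (T (g • x) (g • y)) := by
  refine ⟨conj_T hz.1, ?_, fun h hh => ?_⟩
  · rw [show g * z * g⁻¹ * (g * z * g⁻¹) = g * (z * z) * g⁻¹ by group, hz.2.1, mul_one,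
      mul_inv_cancel]
  · have h' : g⁻¹ * h * g ∈ T x y := by
      have := conj_T (g := g⁻¹) hh
      rwa [inv_inv, inv_smul_smul, inv_smul_smul] at this
    calc h * (g * z * g⁻¹) = g * ((g⁻¹ * h * g) * z) * g⁻¹ := by group
      _ = g * (z * (g⁻¹ * h * g)) * g⁻¹ := by rw [hz.2.2 _ h']
      _ = g * z * g⁻¹ * h := by group

namespace Am

/-- The kernel of the action on the neighbours. -/
def Q (x : Ω) : Subgroup G where
  carrier := {q | q • x = x ∧ ∀ y, D.Adj x y → q • y = y}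
  one_mem' := ⟨one_smul _ x, fun y _ => one_smul _ y⟩
  mul_mem' := by
    rintro a b ⟨ha, ha'⟩ ⟨hb, hb'⟩
    exact ⟨by rw [mul_smul, hb, ha], fun y h => by rw [mul_smul, hb' y h, ha' y h]⟩
  inv_mem' := by
    rintro a ⟨ha, ha'⟩
    exact ⟨inv_smul_eq_iff.mpr ha.symm, fun y h => inv_smul_eq_iff.mpr (ha' y h).symm⟩

theorem mem_Q {x : Ω} {q : G} : q ∈ D.Q x ↔ q • x = x ∧ ∀ y, D.Adj x y → q • y = y := Iff.rfl

theorem Q_le_T {x y : Ω} (h : D.Adj x y) : D.Q x ≤ T x y := fun _ hq => ⟨hq.1, hq.2 y h⟩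

theorem conj_Q {g q : G} {x : Ω} (hq : q ∈ D.Q x) : g * q * g⁻¹ ∈ D.Q (g • x) := by
  refine ⟨conj_fix hq.1, fun y hy => ?_⟩
  have h' : D.Adj x (g⁻¹ • y) := by
    have := D.equiv g⁻¹ hy
    rwa [inv_smul_smul] at this
  have := conj_fix (g := g) (hq.2 _ h')
  rwa [smul_inv_smul] at this

theorem third {x y z : Ω} (hy : D.Adj x y) (hz : D.Adj x z) (hne : z ≠ y) :
    ∃ w, D.Adj x w ∧ w ≠ y ∧ w ≠ z ∧ ∀ u, D.Adj x u → u = y ∨ u = z ∨ u = w := by
  obtain ⟨a, b, c, hab, hac, hbc, h⟩ := D.nbr x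
  rcases (h y).mp hy with rfl | rfl | rfl <;> rcases (h z).mp hz with rfl | rfl | rfl
  all_goals first | exact absurd rfl hne | skip
  · exact ⟨c, (h c).mpr (Or.inr (Or.inr rfl)), hac.symm, hbc.symm, fun u hu => by have := (h u).mp hu; tauto⟩
  · exact ⟨b, (h b).mpr (Or.inr (Or.inl rfl)), hab.symm, hbc, fun u hu => by have := (h u).mp hu; tauto⟩
  · exact ⟨c, (h c).mpr (Or.inr (Or.inr rfl)), hbc.symm, hac.symm, fun u hu => by have := (h u).mp hu; tauto⟩
  · exact ⟨a, (h a).mpr (Or.inl rfl), hab, hac, fun u hu => by have := (h u).mp hu; tauto⟩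
  · exact ⟨b, (h b).mpr (Or.inr (Or.inl rfl)), hbc, hab.symm, fun u hu => by have := (h u).mp hu; tauto⟩
  · exact ⟨a, (h a).mpr (Or.inl rfl), hac, hab, fun u hu => by have := (h u).mp hu; tauto⟩

theorem two_others {x y : Ω} (hy : D.Adj x y) :
    ∃ z w, D.Adj x z ∧ D.Adj x w ∧ z ≠ y ∧ w ≠ y ∧ z ≠ w := by
  obtain ⟨a, b, c, hab, hac, hbc, h⟩ := D.nbr x
  have ha : D.Adj x a := (h a).mpr (Or.inl rfl)
  have hb : D.Adj x b := (h b).mpr (Or.inr (Or.inl rfl))
  have hc : D.Adj x c := (h c).mpr (Or.inr (Or.inr rfl))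
  rcases (h y).mp hy with rfl | rfl | rfl
  · exact ⟨b, c, hb, hc, hab.symm, hac.symm, hbc⟩
  · exact ⟨a, c, ha, hc, hab, hbc.symm, hac⟩
  · exact ⟨a, b, ha, hb, hac, hbc, hab⟩

theorem adj_smul_of_fix {g : G} {x y : Ω} (hg : g • x = x) (h : D.Adj x y) : D.Adj x (g • y) := by
  have := D.equiv g h
  rwa [hg] at this

/-- An element of an edge group outside the kernel moves both other neighbours. -/
theorem moves {x y z : Ω} {t : G} (hy : D.Adj x y) (ht : t ∈ T x y) (htQ : t ∉ D.Q x)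
    (hz : D.Adj x z) (hne : z ≠ y) : t • z ≠ z := by
  intro e
  apply htQ
  refine ⟨ht.1, fun u hu => ?_⟩
  obtain ⟨w, hw, hwy, hwz, hall⟩ := D.third hy hz hne
  rcases hall u hu with rfl | rfl | rfl
  · exact ht.2
  · exact e
  · rcases hall _ (D.adj_smul_of_fix ht.1 hu) with h1 | h1 | h1
    · exact absurd ((MulAction.injective t) (h1.trans ht.2.symm)) hwy
    · exact absurd ((MulAction.injective t) (h1.trans e.symm)) hwz
    · exact h1

theorem mul_mem_Q {x y : Ω} (hy : D.Adj x y) {h k : G} (hh : h ∈ T x y) (hk : k ∈ T x y)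
    (hhQ : h ∉ D.Q x) (hkQ : k ∉ D.Q x) : h * k ∈ D.Q x := by
  refine ⟨(mul_mem hh hk).1, fun u hu => ?_⟩
  by_cases huy : u = y
  · rw [huy]; exact (mul_mem hh hk).2
  obtain ⟨w, hw, hwy, hwu, hall⟩ := D.third hy hu huy
  have hk1 : k • u = w := by
    rcases hall _ (D.adj_smul_of_fix hk.1 hu) with h1 | h1 | h1
    · exact absurd ((MulAction.injective k) (h1.trans hk.2.symm)) huy
    · exact absurd h1 (D.moves hy hk hkQ hu huy)
    · exact h1
  have hh1 : h • w = u := by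
    rcases hall _ (D.adj_smul_of_fix hh.1 hw) with h1 | h1 | h1
    · exact absurd ((MulAction.injective h) (h1.trans hh.2.symm)) hwy
    · exact h1
    · exact absurd h1 (D.moves hy hh hhQ hw hwy)
  rw [mul_smul, hk1, hh1]

theorem exists_not_mem_Q {x y : Ω} (hy : D.Adj x y) : ∃ t ∈ T x y, t ∉ D.Q (G := G) x := by
  obtain ⟨z, w, hz, hw, hzy, -, -⟩ := D.two_others hy
  obtain ⟨g, h1, h2, h3⟩ := D.swap hy hz hzy
  exact ⟨g, ⟨h1, h2⟩, fun h => h3 (h.2 z hz)⟩

/-- A subgroup containing an edge group and an element moving the neighbour contains the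
vertex group. -/
theorem stab_le {x a : Ω} (ha : D.Adj x a) {H : Subgroup G} (hT : T x a ≤ H) {t : G}
    (ht : t ∈ H) (htx : t • x = x) (hta : t • a ≠ a) : stabilizer G x ≤ H := by
  have hta' := D.adj_smul_of_fix htx ha
  obtain ⟨w, hw, hwa, hwt, hall⟩ := D.third ha hta' hta
  obtain ⟨k, hk1, hk2, hk3⟩ := D.swap ha hta' hta
  have hkw : k • t • a = w := by
    rcases hall _ (D.adj_smul_of_fix hk1 hta') with h1 | h1 | h1
    · exact absurd ((MulAction.injective k) (h1.trans hk2.symm)) hta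
    · exact absurd h1 hk3
    · exact h1
  intro g hg
  have hex : ∃ h ∈ H, h • x = x ∧ h • a = g • a := by
    rcases hall _ (D.adj_smul_of_fix hg ha) with h1 | h1 | h1
    · exact ⟨1, one_mem _, one_smul _ _, by rw [one_smul, h1]⟩
    · exact ⟨t, ht, htx, h1.symm⟩
    · exact ⟨k * t, mul_mem (hT ⟨hk1, hk2⟩) ht, by rw [mul_smul, htx, hk1],
        by rw [mul_smul, hkw, h1]⟩
  obtain ⟨h, hh, hhx, hha⟩ := hex
  have : h⁻¹ * g ∈ T x a := mem_T.mpr ⟨by rw [mul_smul, show g • x = x from hg, inv_smul_eq_iff, hhx],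
    by rw [mul_smul, inv_smul_eq_iff, hha]⟩
  simpa using mul_mem hh (hT this)

/-- Vertices and edges in a fixed component exhaust the vertices. -/
theorem eq_smul {x y : Ω} (h : D.Adj x y) (u : Ω) : ∃ g : G, g • x = u ∨ g • y = u := by
  obtain ⟨a, b, c, -, -, -, hu⟩ := D.nbr u
  obtain ⟨g, hg | hg⟩ := D.edge h ((hu a).mpr (Or.inl rfl))
  · exact ⟨g, Or.inl hg.1⟩
  · exact ⟨g, Or.inr hg.2⟩

theorem eq_bot_of_normalized {x y : Ω} (h : D.Adj x y) {N : Subgroup G} (hN : N ≤ T x y)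
    (hx : ∀ g : G, g • x = x → ∀ n ∈ N, g * n * g⁻¹ ∈ N)
    (hy : ∀ g : G, g • y = y → ∀ n ∈ N, g * n * g⁻¹ ∈ N) : N = ⊥ := by
  have hall : ∀ g : G, ∀ n ∈ N, g * n * g⁻¹ ∈ N := by
    intro g
    have hg : g ∈ stabilizer G x ⊔ stabilizer G y := by rw [D.gen h]; trivial
    rw [← Subgroup.closure_eq (stabilizer G x), ← Subgroup.closure_eq (stabilizer G y),
      ← Subgroup.closure_union] at hg
    induction hg using Subgroup.closure_induction_left with
    | one => intro n hn; simpa using hn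
    | mul_left a ha b _ ih =>
      intro n hn
      have := ih n hn
      rcases ha with ha | ha
      · simpa [mul_assoc] using hx a ha _ this
      · simpa [mul_assoc] using hy a ha _ this
    | inv_mul_cancel a ha b _ ih =>
      intro n hn
      have := ih n hn
      rcases ha with ha | ha
      · simpa [mul_assoc] using hx a⁻¹ (inv_mem ha : a⁻¹ ∈ stabilizer G x) _ this
      · simpa [mul_assoc] using hy a⁻¹ (inv_mem ha : a⁻¹ ∈ stabilizer G y) _ this
  rw [Subgroup.eq_bot_iff_forall]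
  intro n hn
  refine D.faith n fun u => ?_
  obtain ⟨g, hg⟩ := D.eq_smul h u
  have hm := hN (hall g⁻¹ n hn)
  rw [inv_inv] at hm
  rcases hg with rfl | rfl
  · have := conj_fix (g := g) hm.1
    rwa [show g * (g⁻¹ * n * g) * g⁻¹ = n by group] at this
  · have := conj_fix (g := g) hm.2
    rwa [show g * (g⁻¹ * n * g) * g⁻¹ = n by group] at this

theorem eq_one_of_central {x y : Ω} (h : D.Adj x y) {z : G} (hz : z ∈ T x y)
    (hx : ∀ g : G, g • x = x → g * z = z * g) (hy : ∀ g : G, g • y = y → g * z = z * g) :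
    z = 1 := by
  have hb : Subgroup.zpowers z = ⊥ := by
    have key : ∀ g : G, g * z = z * g → ∀ n ∈ Subgroup.zpowers z, g * n * g⁻¹ ∈
        Subgroup.zpowers z := by
      intro g hg n hn
      obtain ⟨i, rfl⟩ := Subgroup.mem_zpowers_iff.mp hn
      rw [((show Commute g z from hg).zpow_right i).eq, mul_inv_cancel_right]
      exact Subgroup.mem_zpowers_iff.mpr ⟨i, rfl⟩
    exact D.eq_bot_of_normalized h (Subgroup.zpowers_le.mpr hz)
      (fun g hg => key g (hx g hg)) (fun g hg => key g (hy g hg))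
  exact Subgroup.zpowers_eq_bot.mp hb

/-- An element of `zed` of an edge group centralised by an element moving the edge is central. -/
theorem central_of_moves {x a : Ω} (ha : D.Adj x a) {z t : G} (hz : z ∈ zed (T x a))
    (htx : t • x = x) (hta : t • a ≠ a) (htz : t * z = z * t) :
    ∀ g : G, g • x = x → g * z = z * g := by
  intro g hg
  have := D.stab_le ha (H := Subgroup.centralizer {z})
    (fun k hk => Subgroup.mem_centralizer_singleton_iff.mpr (hz.2.2 k hk))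
    (Subgroup.mem_centralizer_singleton_iff.mpr htz) htx hta hg
  exact Subgroup.mem_centralizer_singleton_iff.mp this

theorem zed_transfer {x a b : Ω} (ha : D.Adj x a) (hb : D.Adj x b) {z : G}
    (hz : z ∈ zed (T x a)) (hc : ∀ g : G, g • x = x → g * z = z * g) : z ∈ zed (T x b) := by
  obtain ⟨g, hgx, hga⟩ := D.trans ha hb
  have := conj_zed (g := g) hz
  rwa [hgx, hga, hc g hgx, mul_inv_cancel_right] at this

theorem zed_le_Q {x y : Ω} (h : D.Adj x y) : zed (T x y) ≤ D.Q (G := G) x := fun z hz =>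
  ⟨hz.1.1, D.cent x z hz.1.1 fun q hq hq' => (hz.2.2 q ⟨hq, hq' y h⟩).symm⟩

/-- The module of a vertex. -/
def V (x : Ω) : Subgroup G := ⨆ (y : Ω) (_ : D.Adj x y), zed (T x y)

theorem zed_le_V {x y : Ω} (h : D.Adj x y) : zed (T x y) ≤ D.V (G := G) x :=
  le_iSup₂ (f := fun y (_ : D.Adj x y) => zed (T x y)) y h

theorem zed_le_V' {x y : Ω} (h : D.Adj x y) : zed (T x y) ≤ D.V (G := G) y := by
  rw [T_comm]; exact D.zed_le_V (D.symm h)

theorem conj_V {g v : G} {x : Ω} (hv : v ∈ D.V x) : g * v * g⁻¹ ∈ D.V (g • x) := by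
  have h : D.V x ≤ (D.V (g • x)).comap (MulAut.conj g).toMonoidHom :=
    iSup₂_le fun y hy z hz => D.zed_le_V (D.equiv g hy) (conj_zed hz)
  exact h hv

theorem conj_V' {g v : G} {x : Ω} (hg : g • x = x) (hv : v ∈ D.V x) : g * v * g⁻¹ ∈ D.V x := by
  have := D.conj_V (g := g) hv
  rwa [hg] at this

theorem V_le_Q (x : Ω) : D.V (G := G) x ≤ D.Q x := iSup₂_le fun _ h => D.zed_le_Q h

theorem V_le_centralizer (x : Ω) : D.V (G := G) x ≤ Subgroup.centralizer (D.Q (G := G) x : Set G) :=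
  iSup₂_le fun _ h _ hz => Subgroup.mem_centralizer_iff.mpr fun q hq =>
    hz.2.2 q (D.Q_le_T h hq)

theorem V_comm {x : Ω} {v q : G} (hv : v ∈ D.V x) (hq : q ∈ D.Q x) : q * v = v * q :=
  Subgroup.mem_centralizer_iff.mp (D.V_le_centralizer x hv) q hq

theorem V_sq {x : Ω} {v : G} (hv : v ∈ D.V x) : v * v = 1 := by
  let E : Subgroup G :=
    { carrier := {g | g ∈ D.V x ∧ g * g = 1}
      one_mem' := ⟨one_mem _, one_mul 1⟩
      mul_mem' := by
        rintro a b ⟨ha, ha2⟩ ⟨hb, hb2⟩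
        refine ⟨mul_mem ha hb, ?_⟩
        calc a * b * (a * b) = a * (b * a) * b := by group
          _ = a * (a * b) * b := by rw [D.V_comm ha (D.V_le_Q x hb)]
          _ = (a * a) * (b * b) := by group
          _ = 1 := by rw [ha2, hb2, one_mul]
      inv_mem' := by
        rintro a ⟨ha, ha2⟩
        rw [inv_eq_self ha2]; exact ⟨ha, ha2⟩ }
  have h : D.V (G := G) x ≤ E := iSup₂_le fun y hy z hz => ⟨D.zed_le_V hy hz, hz.2.1⟩
  exact (h hv).2

theorem V_inv {x : Ω} {v : G} (hv : v ∈ D.V x) : v⁻¹ = v := inv_eq_self (D.V_sq hv)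

theorem V_centralizer {x : Ω} {g : G} (hg : g • x = x)
    (hc : ∀ v ∈ D.V x, g * v = v * g) : g ∈ D.Q x := by
  refine ⟨hg, fun y hy => ?_⟩
  by_contra hgy
  obtain ⟨z, hzx, hzy, hz2, hzc, k, hk, hne⟩ := D.nc hy
  have hz : z ∈ zed (T x y) := ⟨⟨hzx, hzy⟩, hz2, fun h hh => hzc h hh.1 hh.2⟩
  exact hne (D.central_of_moves hy hz hg hgy (hc z (D.zed_le_V hy hz)) k hk)

theorem V_ne_bot {x y : Ω} (h : D.Adj x y) : D.V (G := G) x ≠ ⊥ := by
  obtain ⟨z, hzx, hzy, hz2, hzc, k, hk, hne⟩ := D.nc h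
  intro hb
  have hz : z ∈ D.V x := D.zed_le_V h ⟨⟨hzx, hzy⟩, hz2, fun h hh => hzc h hh.1 hh.2⟩
  rw [hb, Subgroup.mem_bot] at hz
  exact hne (by rw [hz, mul_one, one_mul])

theorem Q_not_le {x y : Ω} (h : D.Adj x y) : ¬ D.Q (G := G) x ≤ D.Q y := by
  intro hle
  have hge : D.Q (G := G) y ≤ D.Q x := by
    intro g hg
    by_contra hgx
    have hgT : g ∈ T x y := by rw [T_comm]; exact D.Q_le_T (D.symm h) hg
    obtain ⟨k, hk, hky⟩ := D.exists_not_mem_Q (D.symm h)
    have hk' : k ∈ T x y := by rw [T_comm]; exact hk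
    have hkx : k ∉ D.Q x := fun e => hky (hle e)
    exact hky ((Subgroup.mul_mem_cancel_left _ hg).mp (hle (D.mul_mem_Q h hgT hk' hgx hkx)))
  have hb : D.Q (G := G) x = ⊥ := by
    refine D.eq_bot_of_normalized h (D.Q_le_T h) (fun g hg n hn => ?_) (fun g hg n hn => ?_)
    · have := D.conj_Q (g := g) hn
      rwa [hg] at this
    · have := D.conj_Q (g := g) (hle hn)
      rw [hg] at this
      exact hge this
  exact D.V_ne_bot h (le_bot_iff.mp (hb ▸ D.V_le_Q x))

end Am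

end CfsgLib.S3Amalgam
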